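import Mathlib
import Cfsg.Agent.Lib.Helper45.PSUGraph.Basic
import Cfsg.Agent.Lib.Helper45.PSUGraph.Reps
import Cfsg.Agent.S0282

/-!
# Local balance for `PSU_n(q)`: basic reductions
-/

set_option autoImplicit false
set_option linter.unusedSectionVars false

namespace Cfsg.Agent.Lib.Helper45.PSUBalance

open scoped MatrixGroups Matrix
open Matrix Cfsg.Agent.Lib.Helper43 Cfsg.Agent.Lib.Helper5 Cfsg.Agent.Lib.Helper45.PSLField
  Cfsg.Agent.Lib.Helper45.PSUGraph

section Abs

variable {K : Type*} [Group K]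

/-- the number of fixed points of an automorphism of prime power order is congruent to the
order of the group -/
theorem card_eqLocus_modEq [Finite K] (x : MulAut K) (p : ℕ) [Fact p.Prime] (hx : x ^ p = 1) :
    Nat.card K ≡ Nat.card ↥(MonoidHom.eqLocus x.toMonoidHom (MonoidHom.id K)) [MOD p] := by
  classical
  have hpg : IsPGroup p ↥(Subgroup.zpowers x) := by
    intro y
    refine ⟨1, ?_⟩
    obtain ⟨k, hk⟩ := Subgroup.mem_zpowers_iff.mp y.2
    apply Subtype.ext
    rw [Subgroup.coe_pow, pow_one, ← hk, ← zpow_natCast, ← _root_.zpow_mul, mul_comm, _root_.zpow_mul,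
      zpow_natCast, hx, _root_.one_zpow]
    rfl
  have : Fintype K := Fintype.ofFinite K
  have hfin : Finite ↥(MulAction.fixedPoints ↥(Subgroup.zpowers x) K) := Finite.of_injective _
    Subtype.val_injective
  have : Fintype ↥(MulAction.fixedPoints ↥(Subgroup.zpowers x) K) := Fintype.ofFinite _
  have h1 := hpg.card_modEq_card_fixedPoints K
  have h2 : Nat.card ↥(MulAction.fixedPoints ↥(Subgroup.zpowers x) K) =
      Nat.card ↥(MonoidHom.eqLocus x.toMonoidHom (MonoidHom.id K)) := by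
    apply Nat.card_congr
    refine Equiv.subtypeEquivRight ?_
    intro k
    constructor
    · intro hk
      exact hk ⟨x, Subgroup.mem_zpowers x⟩
    · intro hk y
      obtain ⟨i, hi⟩ := Subgroup.mem_zpowers_iff.mp y.2
      have hk' : x k = k := hk
      have hfix : ∀ i : ℤ, (x ^ i) k = k := by
        intro i
        induction i using Int.induction_on with
        | zero => simp
        | succ i ih =>
          rw [_root_.zpow_add_one, MulAut.mul_apply, hk', ih]
        | pred i ih =>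
          rw [_root_.zpow_sub_one, MulAut.mul_apply]
          have : x⁻¹ k = k := by
            rw [MulAut.inv_apply, MulEquiv.symm_apply_eq, hk']
          rw [this, ih]
      show (y : MulAut K) k = k
      rw [← hi]
      exact hfix i
  rw [← h2]
  exact h1

end Abs

section PSU

variable {n : ℕ} {F : Type*} [Field F] [Fintype F] {q : ℕ}

/-- `PSU_3(2)` is not simple -/
theorem not_three_two_of_simple (hF : Fintype.card F = q ^ 2)
    (hK : IsSimpleGroup (Cfsg.PSU n F q)) : ¬ (n = 3 ∧ q = 2) := by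
  rintro ⟨rfl, rfl⟩
  have hF' : Fintype.card F = 4 := by rw [hF]; norm_num
  obtain ⟨hcard, hsolv⟩ := Cfsg.Agent.S0282.result hF'
  have hc : ∀ a b : Cfsg.PSU 3 F 2, a * b = b * a := IsSimpleGroup.comm_iff_isSolvable.mpr hsolv
  let _ : CommGroup (Cfsg.PSU 3 F 2) := { (inferInstance : Group (Cfsg.PSU 3 F 2)) with mul_comm := hc }
  have hp : (Nat.card (Cfsg.PSU 3 F 2)).Prime := IsSimpleGroup.prime_card
  rw [hcard] at hp
  exact absurd hp (by norm_num)

/-- an automorphism `psuDiag g * psuField σ` of order two with `σ ≠ 1` is `xg g` -/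
theorem eq_xg_of_std_invol (hF : Fintype.card F = q ^ 2) (hn : 3 ≤ n)
    (g : ↥(Cfsg.GU n F q)) (σ : RingAut F) (hσ1 : σ ≠ 1)
    (h2 : orderOf ((psuDiag g : MulAut (Cfsg.PSU n F q)) * psuField σ) = 2) :
    (psuDiag g : MulAut (Cfsg.PSU n F q)) * psuField σ = xg hF g := by
  classical
  obtain ⟨g2, -, h2'⟩ := pow_psuDiag_psuField (n := n) (F := F) (q := q) g σ 2
  have h3 := pow_orderOf_eq_one ((psuDiag g : MulAut (Cfsg.PSU n F q)) * psuField σ)
  rw [h2, h2'] at h3
  have h4 : σ ^ 2 = 1 := (eq_one_of_psuDiag_mul_psuField_eq_one hF hn g2 _ h3).1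
  have hσ2 : σ * σ = 1 := by rw [← pow_two]; exact h4
  have hστ : σ = qAut hF := by
    obtain ⟨p, hp⟩ := CharP.exists F
    have hpp : p.Prime := CharP.char_is_prime F p
    have : Fact p.Prime := ⟨hpp⟩
    obtain ⟨k, -, hk⟩ := FiniteField.card F p
    obtain ⟨e₁⟩ := ringAut_mulEquiv_zmod' (F := F) p (k : ℕ) hk
    have : NeZero (k : ℕ) := ⟨k.ne_zero⟩
    have hcyc : IsCyclic (RingAut F) := (MulEquiv.isCyclic e₁).mpr inferInstance
    have hfin : Finite (RingAut F) := Finite.of_equiv _ e₁.symm.toEquiv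
    exact eq_of_involutions_of_isCyclic hσ1 hσ2 (qAut_ne_one hF) (qAut_mul_self hF)
  rw [hστ]
  rfl

/-- `PSU_n(q)`, `q` odd, has even order -/
theorem two_dvd_card_psu (hF : Fintype.card F = q ^ 2) (hn : 3 ≤ n) (hodd : Odd q)
    (h2 : (2 : F) ≠ 0) : 2 ∣ Nat.card (Cfsg.PSU n F q) := by
  classical
  set i₀ : Fin n := ⟨0, by omega⟩ with hi₀
  set i₁ : Fin n := ⟨1, by omega⟩ with hi₁
  set i₂ : Fin n := ⟨2, by omega⟩ with hi₂
  set D₀ : Matrix (Fin n) (Fin n) F := Matrix.diagonal (upd i₀ (-1 : F)) with hD₀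
  set D₁ : Matrix (Fin n) (Fin n) F := Matrix.diagonal (upd i₁ (-1 : F)) with hD₁
  have hq1 : ((-1 : F)) ^ q = -1 := hodd.neg_one_pow
  have hD₀D₀ : D₀ * D₀ = 1 := by
    rw [hD₀, diagonal_upd_mul, neg_mul_neg, one_mul, diagonal_upd_one]
  have hD₁D₁ : D₁ * D₁ = 1 := by
    rw [hD₁, diagonal_upd_mul, neg_mul_neg, one_mul, diagonal_upd_one]
  have hcomm : D₀ * D₁ = D₁ * D₀ := by
    rw [hD₀, hD₁, Matrix.diagonal_mul_diagonal, Matrix.diagonal_mul_diagonal]
    congr 1
    funext i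
    exact mul_comm _ _
  have hs0 : mstar (qAut hF) D₀ = D₀ := by rw [hD₀, mstar_diagonal_upd, hq1]
  have hs1 : mstar (qAut hF) D₁ = D₁ := by rw [hD₁, mstar_diagonal_upd, hq1]
  have hMM : (D₀ * D₁) * (D₀ * D₁) = 1 := by
    calc (D₀ * D₁) * (D₀ * D₁) = D₀ * (D₁ * D₀) * D₁ := by
          simp only [Matrix.mul_assoc]
      _ = D₀ * (D₀ * D₁) * D₁ := by rw [hcomm]
      _ = (D₀ * D₀) * (D₁ * D₁) := by simp only [Matrix.mul_assoc]
      _ = 1 := by rw [hD₀D₀, hD₁D₁, Matrix.one_mul]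
  have hM : mstar (qAut hF) (D₀ * D₁) * (D₀ * D₁) = 1 := by
    rw [mstar_mul, hs0, hs1, ← hcomm]
    exact hMM
  have hdet : (D₀ * D₁).det = 1 := by
    rw [Matrix.det_mul, hD₀, hD₁, det_diagonal_upd, det_diagonal_upd]
    ring
  set u : ↥(Cfsg.GU n F q) := guMk hF (D₀ * D₁) hM with hu
  set sl : Matrix.SpecialLinearGroup (Fin n) F := ⟨D₀ * D₁, hdet⟩ with hsl
  have hsu : sl ∈ Cfsg.SU n F q := by
    rw [mem_SU_iff']
    exact (mem_GU_iff' (u : GL (Fin n) F)).mp u.2
  set s : ↥(Cfsg.SU n F q) := ⟨sl, hsu⟩ with hs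
  have hss : s * s = 1 := by
    apply su_ext
    show (D₀ * D₁) * (D₀ * D₁) = 1
    exact hMM
  set k : Cfsg.PSU n F q := QuotientGroup.mk s with hk
  have hkk : k ^ 2 = 1 := by
    rw [hk, pow_two, ← QuotientGroup.mk_mul, hss]
    rfl
  have hk1 : k ≠ 1 := by
    intro h1
    have h3 : (psuDiag (toGU s) : MulAut (Cfsg.PSU n F q)) = 1 := by
      rw [psuDiag_toGU, ← hk, h1, map_one]
    obtain ⟨c, hc⟩ := (psuDiag_eq_one_iff hF hn (toGU s)).mp h3
    rw [toGU_coe] at hc
    have hc' : D₀ * D₁ = c • (1 : Matrix (Fin n) (Fin n) F) := hc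
    have e0 := congrFun (congrFun hc' i₀) i₀
    have e2 := congrFun (congrFun hc' i₂) i₂
    have h02 : i₀ ≠ i₂ := by rw [hi₀, hi₂]; intro h; simpa using congrArg Fin.val h
    have h01 : i₀ ≠ i₁ := by rw [hi₀, hi₁]; intro h; simpa using congrArg Fin.val h
    have h12 : i₁ ≠ i₂ := by rw [hi₁, hi₂]; intro h; simpa using congrArg Fin.val h
    rw [hD₀, hD₁, Matrix.diagonal_mul_diagonal, Matrix.diagonal_apply_eq, Matrix.smul_apply,
      Matrix.one_apply_eq, smul_eq_mul, mul_one] at e0 e2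
    simp only [upd, Function.update_self, Function.update_of_ne h01,
      Function.update_of_ne h02.symm, Function.update_of_ne h12.symm] at e0 e2
    apply h2
    have : (1 : F) = -1 := by rw [← e0] at e2; simpa using e2
    linear_combination this
  have hord : orderOf k = 2 := orderOf_eq_prime hkk hk1
  rw [← hord]
  exact orderOf_dvd_natCard k

end PSU

end Cfsg.Agent.Lib.Helper45.PSUBalance
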