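import Mathlib
import Cfsg.Agent.Lib.Helper44.GraphInv2

/-!
# Siegel transformations of a symmetric bilinear form (matrix version)
-/

set_option autoImplicit false
set_option linter.unusedSectionVars false

namespace Cfsg.Agent.Lib.Helper45.PSUBalance

open scoped Matrix
open Matrix Cfsg.Agent.Lib.Helper44.GraphInv

variable {n : ℕ} {K : Type*} [Field K]

section Bilin

variable (M : Matrix (Fin n) (Fin n) K)

theorem bf_add_left (x y z : Fin n → K) : bf M (x + y) z = bf M x z + bf M y z := by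
  unfold bf; rw [add_dotProduct]

theorem bf_add_right (x y z : Fin n → K) : bf M x (y + z) = bf M x y + bf M x z := by
  unfold bf; rw [Matrix.mulVec_add, dotProduct_add]

theorem bf_sub_left (x y z : Fin n → K) : bf M (x - y) z = bf M x z - bf M y z := by
  unfold bf; rw [sub_dotProduct]

theorem bf_sub_right (x y z : Fin n → K) : bf M x (y - z) = bf M x y - bf M x z := by
  unfold bf; rw [Matrix.mulVec_sub, dotProduct_sub]

theorem bf_smul_left (c : K) (x y : Fin n → K) : bf M (c • x) y = c * bf M x y := by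
  unfold bf; rw [smul_dotProduct]; rfl

theorem bf_smul_right (c : K) (x y : Fin n → K) : bf M x (c • y) = c * bf M x y := by
  unfold bf; rw [Matrix.mulVec_smul, dotProduct_smul]; rfl

theorem bf_zero_left (y : Fin n → K) : bf M 0 y = 0 := by
  unfold bf; rw [zero_dotProduct]

theorem bf_zero_right (x : Fin n → K) : bf M x 0 = 0 := by
  unfold bf; rw [Matrix.mulVec_zero, dotProduct_zero]

theorem bf_symm' (hM : Mᵀ = M) (x y : Fin n → K) : bf M x y = bf M y x := by
  rw [bf_transpose, hM]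

theorem vecMulVec_mul_mulVec (u a x : Fin n → K) :
    (Matrix.vecMulVec u a * M) *ᵥ x = bf M a x • u := by
  rw [Matrix.vecMulVec_mul, Matrix.vecMulVec_mulVec, op_smul_eq_smul, ← Matrix.dotProduct_mulVec]
  rfl

end Bilin

section Siegel

variable (M : Matrix (Fin n) (Fin n) K)

/-- the Siegel transformation `x ↦ x + B(a,x) u - B(u,x) a - Q(a) B(u,x) u` -/
def sgv (u a x : Fin n → K) : Fin n → K :=
  x + bf M a x • u - bf M u x • a - (bf M a a / 2 * bf M u x) • u

/-- the linear part `N₁` -/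
def sgN1 (u a : Fin n → K) : Matrix (Fin n) (Fin n) K :=
  (Matrix.vecMulVec u a - Matrix.vecMulVec a u) * M

/-- the quadratic part `N₂` -/
def sgN2 (u a : Fin n → K) : Matrix (Fin n) (Fin n) K :=
  -(bf M a a / 2) • (Matrix.vecMulVec u u * M)

/-- the matrix of the Siegel transformation -/
def sgM (u a : Fin n → K) : Matrix (Fin n) (Fin n) K :=
  1 + sgN1 M u a + sgN2 M u a

theorem sgN1_mulVec (u a x : Fin n → K) :
    sgN1 M u a *ᵥ x = bf M a x • u - bf M u x • a := by
  unfold sgN1
  rw [Matrix.sub_mul, Matrix.sub_mulVec, vecMulVec_mul_mulVec, vecMulVec_mul_mulVec]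

theorem sgN2_mulVec (u a x : Fin n → K) :
    sgN2 M u a *ᵥ x = -((bf M a a / 2 * bf M u x) • u) := by
  unfold sgN2
  rw [Matrix.smul_mulVec, vecMulVec_mul_mulVec, smul_smul, neg_mul, neg_smul]

theorem sgM_mulVec (u a x : Fin n → K) : sgM M u a *ᵥ x = sgv M u a x := by
  unfold sgM sgv
  rw [Matrix.add_mulVec, Matrix.add_mulVec, Matrix.one_mulVec, sgN1_mulVec, sgN2_mulVec]
  abel

theorem sgN1_smul (u a : Fin n → K) (t : K) : sgN1 M u (t • a) = t • sgN1 M u a := by
  unfold sgN1
  rw [Matrix.vecMulVec_smul, Matrix.smul_vecMulVec, ← smul_sub, Matrix.smul_mul]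

theorem sgN2_smul (u a : Fin n → K) (t : K) : sgN2 M u (t • a) = (t * t) • sgN2 M u a := by
  unfold sgN2
  rw [bf_smul_left, bf_smul_right, smul_smul]
  congr 1
  ring

theorem sgM_smul (u a : Fin n → K) (t : K) :
    sgM M u (t • a) = 1 + t • sgN1 M u a + (t * t) • sgN2 M u a := by
  unfold sgM
  rw [sgN1_smul, sgN2_smul]

variable {M}

theorem bf_sgv_right (hM : Mᵀ = M) (u a : Fin n → K) (huu : bf M u u = 0) (hua : bf M u a = 0)
    (x : Fin n → K) : bf M u (sgv M u a x) = bf M u x := by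
  unfold sgv
  rw [bf_sub_right, bf_sub_right, bf_add_right, bf_smul_right, bf_smul_right, bf_smul_right,
    huu, hua]
  ring

/-- Siegel transformations are isometries -/
theorem bf_sgv (hM : Mᵀ = M) (h2 : (2 : K) ≠ 0) (u a : Fin n → K) (huu : bf M u u = 0)
    (hua : bf M u a = 0) (x y : Fin n → K) : bf M (sgv M u a x) (sgv M u a y) = bf M x y := by
  have hau : bf M a u = 0 := by rw [bf_symm' M hM]; exact hua
  have hxu : bf M x u = bf M u x := bf_symm' M hM x u
  have hxa : bf M x a = bf M a x := bf_symm' M hM x a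
  unfold sgv
  simp only [bf_sub_left, bf_sub_right, bf_add_left, bf_add_right, bf_smul_left, bf_smul_right,
    huu, hua, hau, hxu, hxa]
  field_simp
  ring

theorem sgM_isometry (hM : Mᵀ = M) (h2 : (2 : K) ≠ 0) (u a : Fin n → K) (huu : bf M u u = 0)
    (hua : bf M u a = 0) : (sgM M u a)ᵀ * M * sgM M u a = M := by
  apply bf_ext
  intro x y
  rw [← bf_mulVec, sgM_mulVec, sgM_mulVec, bf_sgv hM h2 u a huu hua]

/-- composition of Siegel transformations with the same singular vector -/
theorem sgv_sgv (hM : Mᵀ = M) (h2 : (2 : K) ≠ 0) (u a b : Fin n → K) (huu : bf M u u = 0)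
    (hua : bf M u a = 0) (hub : bf M u b = 0) (x : Fin n → K) :
    sgv M u a (sgv M u b x) = sgv M u (a + b) x := by
  have hau : bf M a u = 0 := by rw [bf_symm' M hM]; exact hua
  have hba : bf M b a = bf M a b := bf_symm' M hM b a
  have h1 := bf_sgv_right hM u b huu hub x
  rw [sgv, h1]
  unfold sgv
  simp only [bf_sub_left, bf_sub_right, bf_add_left, bf_add_right, bf_smul_left, bf_smul_right,
    huu, hua, hau, hub, hba]
  ext i
  simp only [Pi.add_apply, Pi.sub_apply, Pi.smul_apply, smul_eq_mul]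
  field_simp
  ring

theorem sgM_mul (hM : Mᵀ = M) (h2 : (2 : K) ≠ 0) (u a b : Fin n → K) (huu : bf M u u = 0)
    (hua : bf M u a = 0) (hub : bf M u b = 0) :
    sgM M u a * sgM M u b = sgM M u (a + b) := by
  apply Matrix.toLin'.injective
  apply LinearMap.ext
  intro x
  rw [Matrix.toLin'_mul, LinearMap.comp_apply, Matrix.toLin'_apply, Matrix.toLin'_apply,
    Matrix.toLin'_apply, sgM_mulVec, sgM_mulVec, sgM_mulVec, sgv_sgv hM h2 u a b huu hua hub]

theorem sgM_det (hM : Mᵀ = M) (h2 : (2 : K) ≠ 0) (hMd : M.det ≠ 0) (u a : Fin n → K)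
    (huu : bf M u u = 0) (hua : bf M u a = 0) : (sgM M u a).det = 1 := by
  have hhalf : bf M u ((2 : K)⁻¹ • a) = 0 := by rw [bf_smul_right, hua, mul_zero]
  have h1 := sgM_mul hM h2 u ((2 : K)⁻¹ • a) ((2 : K)⁻¹ • a) huu hhalf hhalf
  have h3 : (2 : K)⁻¹ • a + (2 : K)⁻¹ • a = a := by
    rw [← add_smul, ← two_mul, mul_inv_cancel₀ h2, one_smul]
  rw [h3] at h1
  have h4 := congrArg Matrix.det (sgM_isometry hM h2 u ((2 : K)⁻¹ • a) huu hhalf)
  rw [Matrix.det_mul, Matrix.det_mul, Matrix.det_transpose] at h4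
  have h5 : (sgM M u ((2 : K)⁻¹ • a)).det * (sgM M u ((2 : K)⁻¹ • a)).det = 1 := by
    apply mul_right_cancel₀ hMd
    rw [one_mul]
    linear_combination h4
  rw [← h1, Matrix.det_mul, h5]

end Siegel

end Cfsg.Agent.Lib.Helper45.PSUBalance
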