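import Mathlib
import Cfsg.Agent.Lib.Helper45.PSUBalance.Siegel
import Cfsg.Agent.Lib.Helper14.OmegaCenter
import Cfsg.Agent.Lib.Helper36.LocalBalance.Decomp
import Cfsg.Agent.Lib.Helper43.OH90

/-!
# Matrices commuting (up to scalars and a field automorphism) with the special isometries of a
symmetric form are scalar
-/

set_option autoImplicit false
set_option linter.unusedSectionVars false

namespace Cfsg.Agent.Lib.Helper45.PSUBalance

open scoped Matrix
open Matrix Cfsg.Agent.Lib.Helper44.GraphInv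

variable {n : ℕ} {K : Type*} [Field K] {F : Type*} [Field F]

section Map

theorem map_mulVec' (j : K →+* F) (M : Matrix (Fin n) (Fin n) K) (v : Fin n → K) :
    M.map j *ᵥ (j ∘ v) = j ∘ (M *ᵥ v) :=
  funext fun i => (RingHom.map_mulVec j M v i).symm

theorem bf_map (j : K →+* F) (M : Matrix (Fin n) (Fin n) K) (x y : Fin n → K) :
    bf (M.map j) (j ∘ x) (j ∘ y) = j (bf M x y) := by
  unfold bf
  rw [map_mulVec', ← RingHom.map_dotProduct]

theorem vecMulVec_map (j : K →+* F) (x y : Fin n → K) :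
    (Matrix.vecMulVec x y).map j = Matrix.vecMulVec (j ∘ x) (j ∘ y) := by
  ext i k
  simp only [Matrix.map_apply, Matrix.vecMulVec_apply, map_mul, Function.comp_apply]

theorem smul_map (j : K →+* F) (c : K) (A : Matrix (Fin n) (Fin n) K) :
    (c • A).map j = j c • A.map j := by
  ext i k
  simp only [Matrix.map_apply, Matrix.smul_apply, smul_eq_mul, map_mul]

theorem one_map (j : K →+* F) : (1 : Matrix (Fin n) (Fin n) K).map j = 1 :=
  Matrix.map_one _ (map_zero _) (map_one _)

theorem add_map (j : K →+* F) (A B : Matrix (Fin n) (Fin n) K) :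
    (A + B).map j = A.map j + B.map j := Matrix.map_add _ (map_add _) _ _

theorem sub_map (j : K →+* F) (A B : Matrix (Fin n) (Fin n) K) :
    (A - B).map j = A.map j - B.map j := Matrix.map_sub _ (map_sub _) _ _

theorem sgN1_map (j : K →+* F) (M : Matrix (Fin n) (Fin n) K) (u a : Fin n → K) :
    (sgN1 M u a).map j = sgN1 (M.map j) (j ∘ u) (j ∘ a) := by
  unfold sgN1
  rw [Matrix.map_mul, sub_map, vecMulVec_map, vecMulVec_map]

theorem sgN2_map (j : K →+* F) (M : Matrix (Fin n) (Fin n) K) (u a : Fin n → K) :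
    (sgN2 M u a).map j = sgN2 (M.map j) (j ∘ u) (j ∘ a) := by
  unfold sgN2
  rw [smul_map, Matrix.map_mul, vecMulVec_map, bf_map, map_neg, map_div₀, map_ofNat]

theorem sgM_map (j : K →+* F) (M : Matrix (Fin n) (Fin n) K) (u a : Fin n → K) :
    (sgM M u a).map j = sgM (M.map j) (j ∘ u) (j ∘ a) := by
  unfold sgM
  rw [add_map, add_map, one_map, sgN1_map, sgN2_map]

theorem transpose_map_eq (j : K →+* F) (M : Matrix (Fin n) (Fin n) K) (hM : Mᵀ = M) :
    (M.map j)ᵀ = M.map j := by
  rw [← Matrix.transpose_map, hM]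

end Map

section Eigen

variable {M : Matrix (Fin n) (Fin n) F}

theorem sgv_self (u a : Fin n → F) (hM : Mᵀ = M) (huu : bf M u u = 0) (hua : bf M u a = 0) :
    sgv M u a u = u := by
  have hau : bf M a u = 0 := by rw [bf_symm' M hM]; exact hua
  unfold sgv
  rw [huu, hau, zero_smul, zero_smul, mul_zero, zero_smul, add_zero, sub_zero, sub_zero]

/-- Siegel transformations have no eigenvalue other than one -/
theorem eq_zero_of_sgv_eq_smul (hM : Mᵀ = M) (u a v : Fin n → F) (huu : bf M u u = 0)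
    (hua : bf M u a = 0) (c : F) (hc : c ≠ 1) (h : sgv M u a v = c • v) : v = 0 := by
  have hc1 : c - 1 ≠ 0 := sub_ne_zero.mpr hc
  have hau : bf M a u = 0 := by rw [bf_symm' M hM]; exact hua
  have h1 : (c - 1) • v = bf M a v • u - bf M u v • a - (bf M a a / 2 * bf M u v) • u := by
    rw [sub_smul, one_smul, ← h]
    unfold sgv
    abel
  have h2 : bf M u v = 0 := by
    have := congrArg (bf M u) h1
    rw [bf_smul_right, bf_sub_right, bf_sub_right, bf_smul_right, bf_smul_right, bf_smul_right,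
      huu, hua, mul_zero, mul_zero, mul_zero, sub_zero, sub_zero] at this
    exact (mul_eq_zero.mp this).resolve_left hc1
  rw [h2, zero_smul, mul_zero, zero_smul, sub_zero, sub_zero] at h1
  have h3 : bf M a v = 0 := by
    have := congrArg (bf M a) h1
    rw [bf_smul_right, bf_smul_right, hau, mul_zero] at this
    exact (mul_eq_zero.mp this).resolve_left hc1
  rw [h3, zero_smul] at h1
  exact (smul_eq_zero.mp h1).resolve_left hc1

/-- the scalar in a projective commutation relation between Siegel transformations is one -/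
theorem zeta_eq_one {M₁ M₂ : Matrix (Fin n) (Fin n) F} (hM₁ : M₁ᵀ = M₁) (hM₂ : M₂ᵀ = M₂)
    (u₁ a₁ u₂ a₂ : Fin n → F) (hu₁ : u₁ ≠ 0) (huu₁ : bf M₁ u₁ u₁ = 0) (hua₁ : bf M₁ u₁ a₁ = 0)
    (huu₂ : bf M₂ u₂ u₂ = 0) (hua₂ : bf M₂ u₂ a₂ = 0)
    (G G' : Matrix (Fin n) (Fin n) F) (hG : G' * G = 1) (ζ : F)
    (h : G * sgM M₁ u₁ a₁ = ζ • (sgM M₂ u₂ a₂ * G)) : ζ = 1 := by
  set v := G *ᵥ u₁ with hv
  have hv0 : v ≠ 0 := by
    intro h0
    apply hu₁
    have : G' *ᵥ v = u₁ := by rw [hv, Matrix.mulVec_mulVec, hG, Matrix.one_mulVec]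
    rw [← this, h0, Matrix.mulVec_zero]
  have h1 : (G * sgM M₁ u₁ a₁) *ᵥ u₁ = (ζ • (sgM M₂ u₂ a₂ * G)) *ᵥ u₁ := by rw [h]
  rw [← Matrix.mulVec_mulVec, sgM_mulVec, sgv_self u₁ a₁ hM₁ huu₁ hua₁, Matrix.smul_mulVec,
    ← Matrix.mulVec_mulVec, ← hv, sgM_mulVec] at h1
  have hζ0 : ζ ≠ 0 := by
    rintro rfl
    rw [zero_smul] at h1
    exact hv0 h1
  by_contra hne
  apply hv0
  apply eq_zero_of_sgv_eq_smul hM₂ u₂ a₂ v huu₂ hua₂ ζ⁻¹
  · intro h3
    apply hne
    rw [← inv_inv ζ, h3, inv_one]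
  · have h5 : ζ⁻¹ • v = sgv M₂ u₂ a₂ v := by
      conv_lhs => rw [h1]
      rw [smul_smul, inv_mul_cancel₀ hζ0, one_smul]
    exact h5.symm

end Eigen

section TauFix

/-- a matrix intertwining a one-parameter family of Siegel transformations, read through two
field embeddings, forces the embeddings to agree -/
theorem hom_eq_of_siegel (j φ : K →+* F) (h2 : (2 : K) ≠ 0) (M : Matrix (Fin n) (Fin n) K)
    (u w a : Fin n → K) (huw : bf M u w = 1) (haw : bf M a w = 0)
    (hua : bf M u a = 0) (haa : bf M a a ≠ 0) (G G' : Matrix (Fin n) (Fin n) F)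
    (hG : G * G' = 1)
    (hcomm : ∀ t : K, G * (sgM M u (t • a)).map φ = (sgM M u (t • a)).map j * G) (t : K) :
    φ t = j t := by
  have h2F : (2 : F) ≠ 0 := by
    intro h
    apply h2
    apply j.injective
    rw [map_ofNat, map_zero, h]
  set N₁ := sgN1 M u a with hN₁
  set N₂ := sgN2 M u a with hN₂
  have hexp : ∀ (ψ : K →+* F) (t : K), (sgM M u (t • a)).map ψ =
      1 + ψ t • N₁.map ψ + (ψ t * ψ t) • N₂.map ψ := by
    intro ψ t
    rw [sgM_smul, add_map, add_map, one_map, smul_map, smul_map, map_mul]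
  have hc : ∀ t : K, φ t • (G * N₁.map φ) + (φ t * φ t) • (G * N₂.map φ) =
      j t • (N₁.map j * G) + (j t * j t) • (N₂.map j * G) := by
    intro t
    have := hcomm t
    rw [hexp, hexp, Matrix.mul_add, Matrix.mul_add, Matrix.mul_one, Matrix.add_mul,
      Matrix.add_mul, Matrix.one_mul, Matrix.mul_smul, Matrix.mul_smul, Matrix.smul_mul,
      Matrix.smul_mul, add_assoc, add_assoc] at this
    exact add_left_cancel this
  have e1 := hc 1
  have e2 := hc (-1)
  simp only [map_one, map_neg, one_smul, mul_one, neg_mul_neg, neg_smul] at e1 e2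
  have hA : G * N₁.map φ = N₁.map j * G := by
    have h3 : (2 : F) • (G * N₁.map φ) = (2 : F) • (N₁.map j * G) := by
      rw [two_smul, two_smul]
      have : (G * N₁.map φ + G * N₂.map φ) - (-(G * N₁.map φ) + G * N₂.map φ) =
          (N₁.map j * G + N₂.map j * G) - (-(N₁.map j * G) + N₂.map j * G) := by rw [e1, e2]
      calc G * N₁.map φ + G * N₁.map φ
          = (G * N₁.map φ + G * N₂.map φ) - (-(G * N₁.map φ) + G * N₂.map φ) := by abel
        _ = (N₁.map j * G + N₂.map j * G) - (-(N₁.map j * G) + N₂.map j * G) := this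
        _ = N₁.map j * G + N₁.map j * G := by abel
    have := congrArg (fun A => (2 : F)⁻¹ • A) h3
    simp only [smul_smul, inv_mul_cancel₀ h2F, one_smul] at this
    exact this
  have hB : G * N₂.map φ = N₂.map j * G := by
    rw [hA] at e1
    exact add_left_cancel e1
  have h4 := hc t
  rw [hA, hB] at h4
  -- cancel `G`
  have h5 : (φ t - j t) • N₁.map j + (φ t * φ t - j t * j t) • N₂.map j = 0 := by
    have h6 : ((φ t - j t) • N₁.map j + (φ t * φ t - j t * j t) • N₂.map j) * G = 0 := by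
      rw [Matrix.add_mul, Matrix.smul_mul, Matrix.smul_mul, sub_smul, sub_smul, sub_add_sub_comm,
        h4, sub_self]
    have := congrArg (fun A => A * G') h6
    simp only [Matrix.mul_assoc, hG, Matrix.mul_one, Matrix.zero_mul] at this
    exact this
  -- apply to `w`
  have h7 := congrArg (fun A => A *ᵥ (j ∘ w)) h5
  simp only [Matrix.add_mulVec, Matrix.smul_mulVec, Matrix.zero_mulVec] at h7
  rw [map_mulVec', map_mulVec', hN₁, hN₂, sgN1_mulVec, sgN2_mulVec, haw, huw,
    zero_smul, one_smul, zero_sub, mul_one] at h7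
  -- pair with `M a`
  have h8 := congrArg (fun x => (j ∘ (M *ᵥ a)) ⬝ᵥ x) h7
  simp only [dotProduct_add, dotProduct_smul, dotProduct_zero] at h8
  rw [← RingHom.map_dotProduct, ← RingHom.map_dotProduct] at h8
  have h9 : (M *ᵥ a) ⬝ᵥ (-a) = -bf M a a := by
    rw [dotProduct_neg, dotProduct_comm]
    rfl
  have h10 : (M *ᵥ a) ⬝ᵥ (-((bf M a a / 2) • u)) = 0 := by
    rw [dotProduct_neg, dotProduct_smul, dotProduct_comm]
    show -((bf M a a / 2) • bf M u a) = 0
    rw [hua, smul_zero, neg_zero]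
  rw [h9, h10, map_zero, smul_zero, add_zero, map_neg, smul_eq_mul] at h8
  have h11 : j (bf M a a) ≠ 0 := (map_ne_zero j).mpr haa
  have h12 : φ t - j t = 0 := by
    rcases mul_eq_zero.mp h8 with h | h
    · exact h
    · exact absurd (neg_eq_zero.mp h) h11
  exact sub_eq_zero.mp h12

end TauFix

end Cfsg.Agent.Lib.Helper45.PSUBalance
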