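import Mathlib
import Cfsg.Agent.Lib.Helper45.PSUBalance.CommSym
import Cfsg.Agent.Lib.Helper5.SymplecticCenter

/-!
# Matrices commuting (up to scalars and a field automorphism) with the isometries of an
alternating form are scalar
-/

set_option autoImplicit false
set_option linter.unusedSectionVars false

namespace Cfsg.Agent.Lib.Helper45.PSUBalance

open scoped Matrix
open Matrix Cfsg.Agent.Lib.Helper44.GraphInv

variable {n : ℕ} {K : Type*} [Field K] {F : Type*} [Field F]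

section Alt

variable (M : Matrix (Fin n) (Fin n) K)

/-- the transvection `x ↦ x + t B(v,x) v` -/
def tvM (v : Fin n → K) (t : K) : Matrix (Fin n) (Fin n) K :=
  1 + t • (Matrix.vecMulVec v v * M)

theorem tvM_mulVec (v : Fin n → K) (t : K) (x : Fin n → K) :
    tvM M v t *ᵥ x = x + (t * bf M v x) • v := by
  unfold tvM
  rw [Matrix.add_mulVec, Matrix.one_mulVec, Matrix.smul_mulVec, vecMulVec_mul_mulVec, smul_smul]

theorem tvM_map (j : K →+* F) (v : Fin n → K) (t : K) :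
    (tvM M v t).map j = tvM (M.map j) (j ∘ v) (j t) := by
  unfold tvM
  rw [add_map, one_map, smul_map, Matrix.map_mul, vecMulVec_map]

variable {M}

theorem bf_alt (hM : Mᵀ = -M) (x y : Fin n → K) : bf M x y = -bf M y x := by
  rw [bf_transpose, hM]
  unfold bf
  rw [Matrix.neg_mulVec, dotProduct_neg]

theorem bf_alt_self (hM : Mᵀ = -M) (h2 : (2 : K) ≠ 0) (x : Fin n → K) : bf M x x = 0 := by
  have h := bf_alt hM x x
  have h3 : (2 : K) * bf M x x = 0 := by linear_combination h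
  exact (mul_eq_zero.mp h3).resolve_left h2

theorem tvM_isometry (hM : Mᵀ = -M) (h2 : (2 : K) ≠ 0) (v : Fin n → K) (t : K) :
    (tvM M v t)ᵀ * M * tvM M v t = M := by
  apply bf_ext
  intro x y
  rw [← bf_mulVec, tvM_mulVec, tvM_mulVec, bf_add_left, bf_add_right, bf_add_right, bf_smul_left,
    bf_smul_left, bf_smul_right, bf_smul_right, bf_alt_self hM h2 v, bf_alt hM x v]
  ring

theorem tvM_mul (hM : Mᵀ = -M) (h2 : (2 : K) ≠ 0) (v : Fin n → K) (s t : K) :
    tvM M v s * tvM M v t = tvM M v (s + t) := by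
  apply Matrix.toLin'.injective
  apply LinearMap.ext
  intro x
  rw [Matrix.toLin'_mul, LinearMap.comp_apply, Matrix.toLin'_apply, Matrix.toLin'_apply,
    Matrix.toLin'_apply, tvM_mulVec, tvM_mulVec, tvM_mulVec, bf_add_right, bf_smul_right,
    bf_alt_self hM h2 v, mul_zero, add_zero, add_assoc, ← add_smul]
  congr 2
  ring

theorem tvM_det (hM : Mᵀ = -M) (h2 : (2 : K) ≠ 0) (hMd : M.det ≠ 0) (v : Fin n → K) (t : K) :
    (tvM M v t).det = 1 := by
  have h1 := tvM_mul hM h2 v (t / 2) (t / 2)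
  have hh : t / 2 + t / 2 = t := by field_simp; ring
  rw [hh] at h1
  have h4 := congrArg Matrix.det (tvM_isometry hM h2 v (t / 2))
  rw [Matrix.det_mul, Matrix.det_mul, Matrix.det_transpose] at h4
  have h5 : (tvM M v (t / 2)).det * (tvM M v (t / 2)).det = 1 := by
    apply mul_right_cancel₀ hMd
    rw [one_mul]
    linear_combination h4
  rw [← h1, Matrix.det_mul, h5]

theorem tvM_self (hM : Mᵀ = -M) (h2 : (2 : K) ≠ 0) (v : Fin n → K) (t : K) :
    tvM M v t *ᵥ v = v := by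
  rw [tvM_mulVec, bf_alt_self hM h2 v, mul_zero, zero_smul, add_zero]

theorem eq_zero_of_tvM_eq_smul (hM : Mᵀ = -M) (h2 : (2 : K) ≠ 0) (v : Fin n → K) (t : K)
    (x : Fin n → K) (c : K) (hc : c ≠ 1) (h : tvM M v t *ᵥ x = c • x) : x = 0 := by
  have hc1 : c - 1 ≠ 0 := sub_ne_zero.mpr hc
  rw [tvM_mulVec] at h
  have h1 : (c - 1) • x = (t * bf M v x) • v := by
    rw [sub_smul, one_smul, ← h]
    abel
  have h3 : bf M v x = 0 := by
    have := congrArg (bf M v) h1
    rw [bf_smul_right, bf_smul_right, bf_alt_self hM h2 v, mul_zero] at this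
    exact (mul_eq_zero.mp this).resolve_left hc1
  rw [h3, mul_zero, zero_smul] at h1
  exact (smul_eq_zero.mp h1).resolve_left hc1

end Alt

section AltF

theorem zeta_eq_one_alt {M₁ M₂ : Matrix (Fin n) (Fin n) F} (hM₁ : M₁ᵀ = -M₁) (hM₂ : M₂ᵀ = -M₂)
    (h2 : (2 : F) ≠ 0) (v₁ v₂ : Fin n → F) (t₁ t₂ : F) (hv₁ : v₁ ≠ 0)
    (G G' : Matrix (Fin n) (Fin n) F) (hG : G' * G = 1) (ζ : F)
    (h : G * tvM M₁ v₁ t₁ = ζ • (tvM M₂ v₂ t₂ * G)) : ζ = 1 := by
  set x := G *ᵥ v₁ with hx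
  have hx0 : x ≠ 0 := by
    intro h0
    apply hv₁
    have : G' *ᵥ x = v₁ := by rw [hx, Matrix.mulVec_mulVec, hG, Matrix.one_mulVec]
    rw [← this, h0, Matrix.mulVec_zero]
  have h1 : (G * tvM M₁ v₁ t₁) *ᵥ v₁ = (ζ • (tvM M₂ v₂ t₂ * G)) *ᵥ v₁ := by rw [h]
  rw [← Matrix.mulVec_mulVec, tvM_self hM₁ h2, Matrix.smul_mulVec, ← Matrix.mulVec_mulVec,
    ← hx] at h1
  have hζ0 : ζ ≠ 0 := by
    rintro rfl
    rw [zero_smul] at h1
    exact hx0 h1
  by_contra hne
  apply hx0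
  apply eq_zero_of_tvM_eq_smul hM₂ h2 v₂ t₂ x ζ⁻¹
  · intro h3
    apply hne
    rw [← inv_inv ζ, h3, inv_one]
  · have h5 : ζ⁻¹ • x = tvM M₂ v₂ t₂ *ᵥ x := by
      conv_lhs => rw [h1]
      rw [smul_smul, inv_mul_cancel₀ hζ0, one_smul]
    exact h5.symm

end AltF

/-- the commutant of the transvections of a non-degenerate alternating form is scalar -/
theorem scalar_of_comm_tvM {M : Matrix (Fin n) (Fin n) K} (hM : Mᵀ = -M) (hMd : M.det ≠ 0)
    (X : Matrix (Fin n) (Fin n) K) (hX : ∀ v : Fin n → K, X * tvM M v 1 = tvM M v 1 * X) :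
    ∃ c : K, X = c • (1 : Matrix (Fin n) (Fin n) K) := by
  have key : ∀ v : Fin n → K, v ≠ 0 → ∃ c : K, X *ᵥ v = c • v := by
    intro v hv
    -- a vector pairing non-trivially with `v`
    obtain ⟨y, hy⟩ : ∃ y, bf M v y ≠ 0 := by
      by_contra hcon
      push Not at hcon
      apply hv
      have h1 : Mᵀ *ᵥ v = 0 := by
        funext i
        have := hcon (Pi.single i 1)
        rw [bf_transpose] at this
        unfold bf at this
        rw [single_dotProduct, one_mul] at this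
        exact this
      have hMd' : Mᵀ.det ≠ 0 := by rw [Matrix.det_transpose]; exact hMd
      exact Matrix.eq_zero_of_mulVec_eq_zero hMd' h1
    have h1 : (X * tvM M v 1) *ᵥ y = (tvM M v 1 * X) *ᵥ y := by rw [hX v]
    rw [← Matrix.mulVec_mulVec, ← Matrix.mulVec_mulVec, tvM_mulVec, tvM_mulVec, one_mul, one_mul,
      Matrix.mulVec_add, Matrix.mulVec_smul] at h1
    have h3 := add_left_cancel h1
    refine ⟨(bf M v y)⁻¹ * bf M v (X *ᵥ y), ?_⟩
    rw [mul_smul, ← h3, smul_smul, inv_mul_cancel₀ hy, one_smul]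
  obtain ⟨a, ha⟩ := Cfsg.Agent.Lib.Helper5.eq_scalar_of_forall_mulVec_mem_span X key
  refine ⟨a, ?_⟩
  rw [ha, Matrix.smul_one_eq_diagonal]
  rfl

/-- **alternating forms** -/
theorem comm_alt {M : Matrix (Fin n) (Fin n) K} (hM : Mᵀ = -M) (h2 : (2 : K) ≠ 0)
    (hMd : M.det ≠ 0) (hn : 1 ≤ n) (j : K →+* F) (τ : F ≃+* F)
    (G G' : Matrix (Fin n) (Fin n) F) (hGG' : G * G' = 1)
    (hcomm : ∀ A₀ : Matrix (Fin n) (Fin n) K, A₀ᵀ * M * A₀ = M → A₀.det = 1 →
      ∃ ζ : F, G * (A₀.map j).map τ = ζ • (A₀.map j * G)) :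
    (∀ t : K, τ (j t) = j t) ∧ ∃ c : F, G = c • (1 : Matrix (Fin n) (Fin n) F) := by
  classical
  have h2F : (2 : F) ≠ 0 := by
    intro h
    apply h2
    apply j.injective
    rw [map_ofNat, map_zero, h]
  set φ : K →+* F := (τ : F →+* F).comp j with hφ
  have hφmap : ∀ A : Matrix (Fin n) (Fin n) K, (A.map j).map τ = A.map φ := by
    intro A
    rw [Matrix.map_map]
    rfl
  have hG'G : G' * G = 1 := mul_eq_one_comm.mp hGG'
  have hnegmap : ∀ ψ : K →+* F, (M.map ψ)ᵀ = -(M.map ψ) := by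
    intro ψ
    rw [← Matrix.transpose_map, hM]
    ext i k
    simp
  have hex : ∀ (v : Fin n → K) (t : K), v ≠ 0 →
      G * ((tvM M v t).map j).map τ = (tvM M v t).map j * G := by
    intro v t hv0
    obtain ⟨ζ, hζ⟩ := hcomm (tvM M v t) (tvM_isometry hM h2 v t) (tvM_det hM h2 hMd v t)
    have hζ' := hζ
    rw [hφmap, tvM_map, tvM_map] at hζ'
    have hv0' : φ ∘ v ≠ 0 := by
      intro h0
      apply hv0
      funext i
      have := congrFun h0 i
      exact (map_eq_zero φ).mp this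
    have h1 := zeta_eq_one_alt (hnegmap φ) (hnegmap j) h2F (φ ∘ v) (j ∘ v) (φ t) (j t) hv0' G G'
      hG'G ζ hζ'
    rw [h1, one_smul] at hζ
    exact hζ
  -- a non-zero vector
  set v₀ : Fin n → K := Pi.single ⟨0, by omega⟩ 1 with hv₀
  have hv₀0 : v₀ ≠ 0 := by
    intro h
    have := congrFun h ⟨0, by omega⟩
    rw [hv₀, Pi.single_eq_same] at this
    exact one_ne_zero this
  set gG : GL (Fin n) F := ⟨G, G', hGG', hG'G⟩ with hgG
  set N₀ : Matrix (Fin n) (Fin n) K := Matrix.vecMulVec v₀ v₀ * M with hN₀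
  have hN₀0 : N₀ ≠ 0 := by
    intro h0
    have hMd' : Mᵀ.det ≠ 0 := by rw [Matrix.det_transpose]; exact hMd
    apply hv₀0
    apply Matrix.eq_zero_of_mulVec_eq_zero hMd'
    funext i
    have h1 : N₀ *ᵥ (Pi.single i 1) = 0 := by rw [h0, Matrix.zero_mulVec]
    rw [hN₀, vecMulVec_mul_mulVec] at h1
    rcases smul_eq_zero.mp h1 with h | h
    · rw [bf_transpose] at h
      unfold bf at h
      rw [single_dotProduct, one_mul] at h
      exact h
    · exact absurd h hv₀0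
  apply Cfsg.Agent.Lib.Helper36.LocalBalance.cent_matrix j τ gG
    {R | ∃ (v : Fin n → K) (t : K), v ≠ 0 ∧ R = tvM M v t} ?_ N₀ hN₀0 ?_ ?_
  · rintro R ⟨v, t, hv, rfl⟩
    exact hex v t hv
  · intro t
    exact ⟨v₀, t, hv₀0, rfl⟩
  · intro X hX
    apply scalar_of_comm_tvM hM hMd X
    intro v
    by_cases hv : v = 0
    · subst hv
      have : tvM M 0 1 = 1 := by
        unfold tvM
        rw [Matrix.vecMulVec_zero, Matrix.zero_mul, smul_zero, add_zero]
      rw [this, Matrix.mul_one, Matrix.one_mul]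
    · exact hX _ ⟨v, 1, hv, rfl⟩

end Cfsg.Agent.Lib.Helper45.PSUBalance
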