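import Mathlib
import Cfsg.Agent.Lib.Helper45.PSUBalance.CommSym

/-!
# The commutant of the Siegel transformations; existence of a hyperbolic frame
-/

set_option autoImplicit false
set_option linter.unusedSectionVars false

namespace Cfsg.Agent.Lib.Helper45.PSUBalance

open scoped Matrix
open Matrix Cfsg.Agent.Lib.Helper44.GraphInv

variable {n : ℕ} {K : Type*} [Field K] {F : Type*} [Field F]

section Parts

variable (M : Matrix (Fin n) (Fin n) K)

theorem sgM_eq (u a : Fin n → K) : sgM M u a = 1 + sgN1 M u a + sgN2 M u a := rfl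

theorem sgM_neg (u a : Fin n → K) : sgM M u (-a) = 1 - sgN1 M u a + sgN2 M u a := by
  have h := sgM_smul M u a (-1)
  rw [neg_one_smul, neg_one_smul, neg_mul_neg, one_mul, one_smul] at h
  rw [h, sub_eq_add_neg]

/-- commuting with `E(u,a)` and `E(u,-a)` means commuting with the two parts -/
theorem comm_parts (h2 : (2 : K) ≠ 0) (X : Matrix (Fin n) (Fin n) K) (u a : Fin n → K)
    (hp : X * sgM M u a = sgM M u a * X) (hm : X * sgM M u (-a) = sgM M u (-a) * X) :
    X * sgN1 M u a = sgN1 M u a * X ∧ X * sgN2 M u a = sgN2 M u a * X := by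
  rw [sgM_eq, Matrix.mul_add, Matrix.mul_add, Matrix.mul_one, Matrix.add_mul, Matrix.add_mul,
    Matrix.one_mul, add_assoc, add_assoc] at hp
  rw [sgM_neg, Matrix.mul_add, Matrix.mul_sub, Matrix.mul_one, Matrix.add_mul, Matrix.sub_mul,
    Matrix.one_mul, sub_add, sub_add] at hm
  have e1 := add_left_cancel hp
  have e2 : X * sgN1 M u a - X * sgN2 M u a = sgN1 M u a * X - sgN2 M u a * X :=
    sub_right_injective hm
  have hA : X * sgN1 M u a = sgN1 M u a * X := by
    have h3 : (2 : K) • (X * sgN1 M u a) = (2 : K) • (sgN1 M u a * X) := by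
      rw [two_smul, two_smul]
      calc X * sgN1 M u a + X * sgN1 M u a
          = (X * sgN1 M u a + X * sgN2 M u a) + (X * sgN1 M u a - X * sgN2 M u a) := by abel
        _ = (sgN1 M u a * X + sgN2 M u a * X) + (sgN1 M u a * X - sgN2 M u a * X) := by
            rw [e1, e2]
        _ = sgN1 M u a * X + sgN1 M u a * X := by abel
    have := congrArg (fun A => (2 : K)⁻¹ • A) h3
    simp only [smul_smul, inv_mul_cancel₀ h2, one_smul] at this
    exact this
  refine ⟨hA, ?_⟩
  rw [hA] at e1
  exact add_left_cancel e1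

end Parts

section Scalar

variable {M : Matrix (Fin n) (Fin n) K}

/-- the commutant of the Siegel transformations attached to a hyperbolic pair is scalar -/
theorem scalar_of_comm_siegel (hM : Mᵀ = M) (h2 : (2 : K) ≠ 0) (u w a₀ : Fin n → K)
    (huu : bf M u u = 0) (hww : bf M w w = 0) (huw : bf M u w = 1)
    (hua₀ : bf M u a₀ = 0) (hwa₀ : bf M w a₀ = 0) (ha₀ : bf M a₀ a₀ ≠ 0)
    (X : Matrix (Fin n) (Fin n) K)
    (hX : ∀ a, bf M u a = 0 → bf M w a = 0 →
      X * sgM M u a = sgM M u a * X ∧ X * sgM M w a = sgM M w a * X) :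
    ∃ c : K, X = c • (1 : Matrix (Fin n) (Fin n) K) := by
  have hwu : bf M w u = 1 := by rw [bf_symm' M hM]; exact huw
  have hneg : ∀ a, bf M u a = 0 → bf M u (-a) = 0 := by
    intro a ha
    rw [← neg_one_smul K a, bf_smul_right, ha, mul_zero]
  have hnegw : ∀ a, bf M w a = 0 → bf M w (-a) = 0 := by
    intro a ha
    rw [← neg_one_smul K a, bf_smul_right, ha, mul_zero]
  have hpu : ∀ a, bf M u a = 0 → bf M w a = 0 →
      X * sgN1 M u a = sgN1 M u a * X ∧ X * sgN2 M u a = sgN2 M u a * X := by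
    intro a hua hwa
    exact comm_parts M h2 X u a (hX a hua hwa).1 (hX (-a) (hneg a hua) (hnegw a hwa)).1
  have hpw : ∀ a, bf M u a = 0 → bf M w a = 0 →
      X * sgN1 M w a = sgN1 M w a * X ∧ X * sgN2 M w a = sgN2 M w a * X := by
    intro a hua hwa
    exact comm_parts M h2 X w a (hX a hua hwa).2 (hX (-a) (hneg a hua) (hnegw a hwa)).2
  have hQ : bf M a₀ a₀ / 2 ≠ 0 := div_ne_zero ha₀ h2
  -- `u` and `w` are eigenvectors
  have hXu : X *ᵥ u = bf M u (X *ᵥ w) • u := by
    have h1 := congrArg (fun A => A *ᵥ w) (hpu a₀ hua₀ hwa₀).2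
    simp only [← Matrix.mulVec_mulVec] at h1
    rw [sgN2_mulVec, sgN2_mulVec, huw, mul_one, Matrix.mulVec_neg, Matrix.mulVec_smul, neg_inj,
      mul_smul] at h1
    have := congrArg (fun v => (bf M a₀ a₀ / 2)⁻¹ • v) h1
    simp only [smul_smul, inv_mul_cancel₀ hQ, one_smul] at this
    rw [this, ← mul_assoc, inv_mul_cancel₀ hQ, one_mul]
  have hXw : X *ᵥ w = bf M w (X *ᵥ u) • w := by
    have h1 := congrArg (fun A => A *ᵥ u) (hpw a₀ hua₀ hwa₀).2
    simp only [← Matrix.mulVec_mulVec] at h1
    rw [sgN2_mulVec, sgN2_mulVec, hwu, mul_one, Matrix.mulVec_neg, Matrix.mulVec_smul, neg_inj,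
      mul_smul] at h1
    have := congrArg (fun v => (bf M a₀ a₀ / 2)⁻¹ • v) h1
    simp only [smul_smul, inv_mul_cancel₀ hQ, one_smul] at this
    rw [this, ← mul_assoc, inv_mul_cancel₀ hQ, one_mul]
  set lu := bf M u (X *ᵥ w) with hlu
  set lw := bf M w (X *ᵥ u) with hlw
  -- the action on the orthogonal complement
  have hXa_w : ∀ a, bf M u a = 0 → bf M w a = 0 → X *ᵥ a = lw • a := by
    intro a hua hwa
    have haw : bf M a w = 0 := by rw [bf_symm' M hM]; exact hwa
    have h1 := congrArg (fun A => A *ᵥ w) (hpu a hua hwa).1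
    simp only [← Matrix.mulVec_mulVec] at h1
    rw [sgN1_mulVec, sgN1_mulVec, haw, huw, zero_smul, one_smul, zero_sub, Matrix.mulVec_neg,
      hXw, bf_smul_right, bf_smul_right, haw, huw, mul_zero, mul_one, zero_smul, zero_sub,
      neg_inj] at h1
    exact h1
  have hXa_u : ∀ a, bf M u a = 0 → bf M w a = 0 → X *ᵥ a = lu • a := by
    intro a hua hwa
    have hau : bf M a u = 0 := by rw [bf_symm' M hM]; exact hua
    have h1 := congrArg (fun A => A *ᵥ u) (hpw a hua hwa).1
    simp only [← Matrix.mulVec_mulVec] at h1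
    rw [sgN1_mulVec, sgN1_mulVec, hau, hwu, zero_smul, one_smul, zero_sub, Matrix.mulVec_neg,
      hXu, bf_smul_right, bf_smul_right, hau, hwu, mul_zero, mul_one, zero_smul, zero_sub,
      neg_inj] at h1
    exact h1
  have hl : lu = lw := by
    have h1 := (hXa_u a₀ hua₀ hwa₀).symm.trans (hXa_w a₀ hua₀ hwa₀)
    have ha₀0 : a₀ ≠ 0 := by
      rintro rfl
      exact ha₀ (bf_zero_left M 0)
    by_contra hne
    apply ha₀0
    have h3 : (lu - lw) • a₀ = 0 := by rw [sub_smul, h1, sub_self]
    exact (smul_eq_zero.mp h3).resolve_left (sub_ne_zero.mpr hne)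
  refine ⟨lu, ?_⟩
  apply Cfsg.Agent.Lib.Helper43.matrix_eq_smul_one_of_mulVec
  intro x
  set r := x - bf M w x • u - bf M u x • w with hr
  have hur : bf M u r = 0 := by
    rw [hr, bf_sub_right, bf_sub_right, bf_smul_right, bf_smul_right, huu, huw]
    ring
  have hwr : bf M w r = 0 := by
    rw [hr, bf_sub_right, bf_sub_right, bf_smul_right, bf_smul_right, hwu, hww]
    ring
  have hx : x = r + bf M w x • u + bf M u x • w := by rw [hr]; abel
  have h1 := hXa_u r hur hwr
  conv_lhs => rw [hx]
  rw [Matrix.mulVec_add, Matrix.mulVec_add, Matrix.mulVec_smul, Matrix.mulVec_smul, h1, hXu, hXw,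
    ← hl]
  conv_rhs => rw [hx]
  rw [smul_add, smul_add, smul_comm lu (bf M w x) u, smul_comm lu (bf M u x) w]

end Scalar

section Frame

variable {M : Matrix (Fin n) (Fin n) K}

/-- a hyperbolic pair together with a non-singular vector orthogonal to it -/
theorem exists_hyp_frame [Finite K] (hM : Mᵀ = M) (h2 : (2 : K) ≠ 0) (hMd : M.det ≠ 0)
    (hn : 3 ≤ n) :
    ∃ u w a : Fin n → K, u ≠ 0 ∧ w ≠ 0 ∧ bf M u u = 0 ∧ bf M w w = 0 ∧ bf M u w = 1 ∧
      bf M u a = 0 ∧ bf M w a = 0 ∧ bf M a a ≠ 0 := by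
  classical
  set gM : GL (Fin n) K := Matrix.GeneralLinearGroup.mkOfDetNeZero M hMd with hgM
  have hgMc : (gM : Matrix (Fin n) (Fin n) K) = M := rfl
  have hQ : (QuadraticMap.polarBilin (symQ M)).Nondegenerate := by
    have := symQ_nondeg h2 gM (by rw [hgMc, hM])
    rwa [hgMc] at this
  have hfr : 3 ≤ Module.finrank K (Fin n → K) := by
    rw [Module.finrank_fin_fun]; exact hn
  obtain ⟨u, w, hQu, hQw, huw'⟩ := Cfsg.Agent.Lib.Helper14.exists_hyp_pair (symQ M) hQ hfr
  have hself : ∀ x : Fin n → K, bf M x x = 2 * symQ M x := by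
    intro x
    rw [← polar_symQ h2 M hM, QuadraticMap.polar_self, nsmul_eq_mul]
    norm_num
  have huu : bf M u u = 0 := by rw [hself, hQu, mul_zero]
  have hww : bf M w w = 0 := by rw [hself, hQw, mul_zero]
  have huw : bf M u w = 1 := by rw [← polar_symQ h2 M hM]; exact huw'
  have hwu : bf M w u = 1 := by rw [bf_symm' M hM]; exact huw
  have hu0 : u ≠ 0 := by
    rintro rfl
    rw [bf_zero_left] at huw
    exact zero_ne_one huw
  have hw0 : w ≠ 0 := by
    rintro rfl
    rw [bf_zero_right] at huw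
    exact zero_ne_one huw
  by_contra hcon
  push Not at hcon
  have hcon' : ∀ a, bf M u a = 0 → bf M w a = 0 → bf M a a = 0 :=
    fun a h1 h3 => hcon u w a hu0 hw0 huu hww huw h1 h3
  -- the complement is totally isotropic
  have hW : ∀ r r', bf M u r = 0 → bf M w r = 0 → bf M u r' = 0 → bf M w r' = 0 →
      bf M r r' = 0 := by
    intro r r' h1 h3 h1' h3'
    have h4 := hcon' (r + r') (by rw [bf_add_right, h1, h1', add_zero])
      (by rw [bf_add_right, h3, h3', add_zero])
    rw [bf_add_left, bf_add_right, bf_add_right, hcon' r h1 h3, hcon' r' h1' h3',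
      bf_symm' M hM r' r] at h4
    have h5 : (2 : K) * bf M r r' = 0 := by linear_combination h4
    exact (mul_eq_zero.mp h5).resolve_left h2
  -- hence trivial
  have hproj : ∀ x : Fin n → K, bf M u (x - bf M w x • u - bf M u x • w) = 0 ∧
      bf M w (x - bf M w x • u - bf M u x • w) = 0 := by
    intro x
    constructor
    · rw [bf_sub_right, bf_sub_right, bf_smul_right, bf_smul_right, huu, huw]; ring
    · rw [bf_sub_right, bf_sub_right, bf_smul_right, bf_smul_right, hwu, hww]; ring
  have hzero : ∀ x : Fin n → K, x - bf M w x • u - bf M u x • w = 0 := by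
    intro x
    set r := x - bf M w x • u - bf M u x • w with hr
    obtain ⟨h1, h3⟩ := hproj x
    have hall : ∀ y, bf M y r = 0 := by
      intro y
      obtain ⟨h1', h3'⟩ := hproj y
      have hy : y = (y - bf M w y • u - bf M u y • w) + bf M w y • u + bf M u y • w := by abel
      rw [hy, bf_add_left, bf_add_left, bf_smul_left, bf_smul_left, h1, h3,
        hW _ r h1' h3' h1 h3]
      ring
    have hMr : M *ᵥ r = 0 := by
      funext i
      have := hall (Pi.single i 1)
      unfold bf at this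
      rw [single_dotProduct, one_mul] at this
      exact this
    exact Matrix.eq_zero_of_mulVec_eq_zero hMd hMr
  -- so everything lies in the span of `u, w`
  have hspan : (⊤ : Submodule K (Fin n → K)) ≤ Submodule.span K {u, w} := by
    intro x _
    have hx : x = bf M w x • u + bf M u x • w := by
      have := hzero x
      rw [sub_sub, sub_eq_zero] at this
      exact this
    rw [hx]
    apply Submodule.add_mem
    · exact Submodule.smul_mem _ _ (Submodule.subset_span (by simp))
    · exact Submodule.smul_mem _ _ (Submodule.subset_span (by simp))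
  have h1 := Submodule.finrank_mono hspan
  rw [finrank_top, Module.finrank_fin_fun] at h1
  have h3 : Module.finrank K (Submodule.span K ({u, w} : Set (Fin n → K))) ≤ 2 := by
    have := finrank_span_finset_le_card (R := K) ({u, w} : Finset (Fin n → K))
    have hc : ({u, w} : Finset (Fin n → K)).card ≤ 2 := Finset.card_le_two
    simp only [Finset.coe_insert, Finset.coe_singleton] at this
    exact this.trans hc
  omega

end Frame

end Cfsg.Agent.Lib.Helper45.PSUBalance

namespace Cfsg.Agent.Lib.Helper45.PSUBalance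

open scoped Matrix
open Matrix Cfsg.Agent.Lib.Helper44.GraphInv

variable {n : ℕ} {K : Type*} [Field K] {F : Type*} [Field F]

/-- **symmetric forms**: a matrix over an extension field intertwining, up to scalars and a
field automorphism, all special isometries of a symmetric form over `K` is scalar, and the field
automorphism fixes `K` -/
theorem comm_sym [Finite K] {M : Matrix (Fin n) (Fin n) K} (hM : Mᵀ = M) (h2 : (2 : K) ≠ 0)
    (hMd : M.det ≠ 0) (hn : 3 ≤ n) (j : K →+* F) (τ : F ≃+* F)
    (G G' : Matrix (Fin n) (Fin n) F) (hGG' : G * G' = 1)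
    (hcomm : ∀ A₀ : Matrix (Fin n) (Fin n) K, A₀ᵀ * M * A₀ = M → A₀.det = 1 →
      ∃ ζ : F, G * (A₀.map j).map τ = ζ • (A₀.map j * G)) :
    (∀ t : K, τ (j t) = j t) ∧ ∃ c : F, G = c • (1 : Matrix (Fin n) (Fin n) F) := by
  classical
  obtain ⟨u, w, a, hu0, hw0, huu, hww, huw, hua, hwa, haa⟩ := exists_hyp_frame hM h2 hMd hn
  have hwu : bf M w u = 1 := by rw [bf_symm' M hM]; exact huw
  have haw : bf M a w = 0 := by rw [bf_symm' M hM]; exact hwa
  set φ : K →+* F := (τ : F →+* F).comp j with hφ
  have hφmap : ∀ A : Matrix (Fin n) (Fin n) K, (A.map j).map τ = A.map φ := by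
    intro A
    rw [Matrix.map_map]
    rfl
  have hG'G : G' * G = 1 := mul_eq_one_comm.mp hGG'
  -- exact commutation with the Siegel transformations
  have hex : ∀ x b : Fin n → K, x ≠ 0 → bf M x x = 0 → bf M x b = 0 →
      G * (sgM M x b).map φ = (sgM M x b).map j * G := by
    intro x b hx0 hxx hxb
    obtain ⟨ζ, hζ⟩ := hcomm (sgM M x b) (sgM_isometry hM h2 x b hxx hxb)
      (sgM_det hM h2 hMd x b hxx hxb)
    rw [hφmap, sgM_map, sgM_map] at hζ
    have hx0' : φ ∘ x ≠ 0 := by
      intro h0
      apply hx0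
      funext i
      have := congrFun h0 i
      exact (map_eq_zero φ).mp this
    have h1 := zeta_eq_one (transpose_map_eq φ M hM) (transpose_map_eq j M hM) (φ ∘ x) (φ ∘ b)
      (j ∘ x) (j ∘ b) hx0' (by rw [bf_map, hxx, map_zero]) (by rw [bf_map, hxb, map_zero])
      (by rw [bf_map, hxx, map_zero]) (by rw [bf_map, hxb, map_zero]) G G' hG'G ζ hζ
    rw [h1, one_smul] at hζ
    rw [sgM_map, sgM_map]
    exact hζ
  -- the field automorphism fixes `K`
  have hfix : ∀ t : K, φ t = j t := by
    intro t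
    apply hom_eq_of_siegel j φ h2 M u w a huw haw hua haa G G' hGG'
    intro s
    exact hex u (s • a) hu0 huu (by rw [bf_smul_right, hua, mul_zero])
  refine ⟨fun t => hfix t, ?_⟩
  have hφj : ∀ A : Matrix (Fin n) (Fin n) K, A.map φ = A.map j := by
    intro A
    ext i k
    exact hfix (A i k)
  apply Cfsg.Agent.Lib.Helper36.LocalBalance.scalar_of_commutes_subfield j
    {R | ∃ b, bf M u b = 0 ∧ bf M w b = 0 ∧ (R = sgM M u b ∨ R = sgM M w b)}
  · intro X hX
    apply scalar_of_comm_siegel hM h2 u w a huu hww huw hua hwa haa X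
    intro b hub hwb
    exact ⟨hX _ ⟨b, hub, hwb, Or.inl rfl⟩, hX _ ⟨b, hub, hwb, Or.inr rfl⟩⟩
  · rintro R ⟨b, hub, hwb, rfl | rfl⟩
    · have := hex u b hu0 huu hub
      rwa [hφj] at this
    · have := hex w b hw0 hww hwb
      rwa [hφj] at this

end Cfsg.Agent.Lib.Helper45.PSUBalance
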