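import Mathlib
import Cfsg.Agent.Lib.Helper45.PSUBalance.Basic
import Cfsg.Agent.Lib.Helper45.PSUBalance.CommSym2
import Cfsg.Agent.Lib.Helper45.PSUBalance.CommAlt
import Cfsg.Agent.Lib.Helper45.PSUGraph.Split
import Cfsg.Agent.Lib.Helper45.PSUAut.Main
import Cfsg.Agent.Lib.Helper36.LocalBalance.Galois

/-!
# Automorphisms of `PSU_n(q)` commuting with the inner centraliser of a graph involution
-/

set_option autoImplicit false
set_option linter.unusedSectionVars false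

namespace Cfsg.Agent.Lib.Helper45.PSUBalance

open scoped MatrixGroups Matrix
open Matrix Cfsg.Agent.Lib.Helper43 Cfsg.Agent.Lib.Helper5 Cfsg.Agent.Lib.Helper45.PSLField
  Cfsg.Agent.Lib.Helper45.PSUGraph Cfsg.Agent.Lib.Helper44.GraphInv

variable {n : ℕ} {F : Type*} [Field F] [Fintype F] {q : ℕ} {F₀ : Type*} [Field F₀]
variable {hF : Fintype.card F = q ^ 2} {j : F₀ →+* F} {g : ↥(Cfsg.GU n F q)}

/-- a special isometry of the descended form gives an inner automorphism centralising `xg g` -/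
theorem exists_inn_cent_of_isometry (hn : 3 ≤ n) (hjq : ∀ a : F₀, j a ^ q = j a)
    (D : Desc hF j g) (A₀ : Matrix (Fin n) (Fin n) F₀) (hA₀ : A₀ᵀ * D.M₀ * A₀ = D.M₀)
    (hdet : A₀.det = 1) :
    ∃ u : ↥(Cfsg.GU n F q),
      ((u : GL (Fin n) F) : Matrix (Fin n) (Fin n) F) = D.B * A₀.map j * D.B' ∧
      (psuDiag u : MulAut (Cfsg.PSU n F q)) ∈
        Cfsg.Inn (Cfsg.PSU n F q) ⊓ Subgroup.centralizer {xg hF g} := by
  have hP : A₀ᵀ * D.M₀ * A₀ = (1 : F₀) • D.M₀ := by rw [one_smul, hA₀]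
  obtain ⟨hunit, κ, -, hκ⟩ := twist (by omega) hjq D D rfl A₀ 1 hP 1
    (by rw [one_pow, map_one, mul_one, mul_one])
  rw [one_smul] at hunit hκ
  set u : ↥(Cfsg.GU n F q) := guMk hF (D.B * A₀.map j * D.B') hunit with hu
  refine ⟨u, rfl, Subgroup.mem_inf.mpr ⟨?_, ?_⟩⟩
  · -- inner: determinant one
    have hdetu : (D.B * A₀.map j * D.B').det = 1 := by
      rw [det_conj_eq _ _ _ D.hBB', ← RingHom.mapMatrix_apply, ← RingHom.map_det, hdet, map_one]
    set sl : Matrix.SpecialLinearGroup (Fin n) F := ⟨D.B * A₀.map j * D.B', hdetu⟩ with hsl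
    have hsu : sl ∈ Cfsg.SU n F q := by
      rw [mem_SU_iff']
      exact (mem_GU_iff' (u : GL (Fin n) F)).mp u.2
    rw [mem_inn_psu_iff]
    refine ⟨⟨sl, hsu⟩, ?_⟩
    congr 1
    apply gu_ext
    rfl
  · rw [mem_centralizer_xg_iff hF hn]
    exact ⟨κ, hκ⟩

/-- the matrix form of a commutation relation -/
theorem comm_matrix_of_comm (hn : 3 ≤ n) (D : Desc hF j g) (h u : ↥(Cfsg.GU n F q))
    (τ : RingAut F) (A : Matrix (Fin n) (Fin n) F)
    (hu : ((u : GL (Fin n) F) : Matrix (Fin n) (Fin n) F) = D.B * A * D.B')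
    (hc : ((psuDiag h : MulAut (Cfsg.PSU n F q)) * psuField τ) * psuDiag u =
      psuDiag u * (psuDiag h * psuField τ)) :
    ∃ ζ : F, (D.B' * ((h : GL (Fin n) F) : Matrix (Fin n) (Fin n) F) * D.B.map τ) * A.map τ =
      ζ • (A * (D.B' * ((h : GL (Fin n) F) : Matrix (Fin n) (Fin n) F) * D.B.map τ)) := by
  have e1 : ((psuDiag h : MulAut (Cfsg.PSU n F q)) * psuField τ) * psuDiag u =
      psuDiag (h * guMap τ u) * psuField τ := by
    rw [mul_assoc, psuField_mul_psuDiag, ← mul_assoc, ← map_mul]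
  have e2 : (psuDiag u : MulAut (Cfsg.PSU n F q)) * (psuDiag h * psuField τ) =
      psuDiag (u * h) * psuField τ := by
    rw [← mul_assoc, ← map_mul]
  rw [e1, e2] at hc
  have h3 := mul_right_cancel hc
  obtain ⟨c, hc'⟩ := (psuDiag_eq_iff hF hn _ _).mp h3
  rw [gu_coe_mul, gu_coe_mul, guMap_coe, hu] at hc'
  refine ⟨c, ?_⟩
  set H := ((h : GL (Fin n) F) : Matrix (Fin n) (Fin n) F) with hH
  have hB'Bτ : D.B'.map τ * D.B.map τ = 1 := by
    rw [← Matrix.map_mul, D.hB'B]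
    exact Matrix.map_one _ (map_zero _) (map_one _)
  have h4 : (D.B * A * D.B').map τ = D.B.map τ * A.map τ * D.B'.map τ := by
    rw [Matrix.map_mul, Matrix.map_mul]
  rw [h4] at hc'
  calc D.B' * H * D.B.map τ * A.map τ
      = D.B' * (H * (D.B.map τ * A.map τ * D.B'.map τ)) * D.B.map τ := by
        simp only [Matrix.mul_assoc]
        rw [hB'Bτ, Matrix.mul_one]
    _ = D.B' * (c • (D.B * A * D.B' * H)) * D.B.map τ := by rw [hc']
    _ = c • (D.B' * D.B * A * (D.B' * H * D.B.map τ)) := by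
        simp only [Matrix.mul_smul, Matrix.smul_mul, Matrix.mul_assoc]
    _ = c • (A * (D.B' * H * D.B.map τ)) := by rw [D.hB'B, Matrix.one_mul]

/-- scalar intertwiner and a field automorphism fixing the small field: the automorphism is a
power of `xg g` -/
theorem mem_zpowers_of_scalar (hn : 3 ≤ n) (hj : ∀ a : F, a ^ q = a ↔ ∃ b, j b = a)
    (D : Desc hF j g) (h : ↥(Cfsg.GU n F q)) (τ : RingAut F) (hτ : ∀ t : F₀, τ (j t) = j t)
    (c : F)
    (hc : D.B' * ((h : GL (Fin n) F) : Matrix (Fin n) (Fin n) F) * D.B.map τ =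
      c • (1 : Matrix (Fin n) (Fin n) F)) :
    (psuDiag h : MulAut (Cfsg.PSU n F q)) * psuField τ ∈ Subgroup.zpowers (xg hF g) := by
  classical
  have hn1 : 1 ≤ n := by omega
  set H := ((h : GL (Fin n) F) : Matrix (Fin n) (Fin n) F) with hH
  -- `h B^τ = c B`
  have h1 : H * D.B.map τ = c • D.B := by
    have := congrArg (fun X => D.B * X) hc
    simp only [← Matrix.mul_assoc, D.hBB', Matrix.one_mul, Matrix.mul_smul, Matrix.mul_one] at this
    exact this
  have hBτ : D.B.map τ * D.B'.map τ = 1 := by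
    rw [← Matrix.map_mul, D.hBB']
    exact Matrix.map_one _ (map_zero _) (map_one _)
  have h3 : H = c • (D.B * D.B'.map τ) := by
    have := congrArg (fun X => X * D.B'.map τ) h1
    simp only [Matrix.mul_assoc, hBτ, Matrix.mul_one, Matrix.smul_mul] at this
    exact this
  -- `τ` is a power of the `q`-th power map
  have hτmem : τ ∈ Subgroup.zpowers (qAut hF) := by
    apply Cfsg.Agent.Lib.Helper36.LocalBalance.mem_zpowers_of_fixes
    intro a ha
    rw [qAut_apply] at ha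
    obtain ⟨b, rfl⟩ := (hj a).mp ha
    exact hτ b
  have hfin : Finite (RingAut F) :=
    Finite.of_injective (fun e : RingAut F => (e : F → F)) DFunLike.coe_injective
  rw [mem_zpowers_iff_mem_range_orderOf, orderOf_qAut hF] at hτmem
  simp only [Finset.mem_image, Finset.mem_range] at hτmem
  obtain ⟨k, hk, hkτ⟩ := hτmem
  have hk' : k = 0 ∨ k = 1 := by omega
  rcases hk' with rfl | rfl
  · -- `τ = 1`
    rw [pow_zero] at hkτ
    subst hkτ
    have h4 : D.B'.map (1 : RingAut F) = D.B' := by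
      ext i k
      rfl
    rw [h4, D.hBB'] at h3
    have h5 : (psuDiag h : MulAut (Cfsg.PSU n F q)) = 1 :=
      (psuDiag_eq_one_iff hF hn h).mpr ⟨c, h3⟩
    rw [h5, map_one, mul_one]
    exact Subgroup.one_mem _
  · rw [pow_one] at hkτ
    subst hkτ
    rw [D.map_B' hn1, ← Matrix.mul_assoc, D.hBB', Matrix.one_mul] at h3
    have h5 : (psuDiag h : MulAut (Cfsg.PSU n F q)) = psuDiag g := by
      apply psuDiag_eq_of_smul h g (c * D.lam)
      rw [← hH, h3]
      unfold Desc.Gt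
      rw [smul_smul]
    rw [h5]
    exact Subgroup.mem_zpowers (xg hF g)

/-- **the automorphisms commuting with the inner centraliser of `xg g` are the powers of
`xg g`** -/
theorem mem_zpowers_of_comm [Fintype F₀] (hn : 3 ≤ n) (hs : ¬ (n = 3 ∧ q = 2))
    (hj : ∀ a : F, a ^ q = a ↔ ∃ b, j b = a) (h2 : (2 : F₀) ≠ 0) (D : Desc hF j g)
    (hD : D.M₀ᵀ = D.M₀ ∨ D.M₀ᵀ = -D.M₀) (hDd : D.M₀.det ≠ 0)
    (a : MulAut (Cfsg.PSU n F q))
    (ha : ∀ e ∈ Cfsg.Inn (Cfsg.PSU n F q) ⊓ Subgroup.centralizer {xg hF g}, a * e = e * a) :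
    a ∈ Subgroup.zpowers (xg hF g) := by
  have hjq : ∀ a : F₀, j a ^ q = j a := fun a => (hj (j a)).mpr ⟨a, rfl⟩
  obtain ⟨h₀, τ, hh₀, haβ⟩ := Cfsg.Agent.Lib.Helper45.PSUAut.aut_psu_semilinear hF hn hs a
  have ha' : a = psuDiag ⟨h₀, hh₀⟩ * psuField τ :=
    (isInducedBySemilinearPSU_iff h₀ hh₀ τ a).mp haβ
  set h : ↥(Cfsg.GU n F q) := ⟨h₀, hh₀⟩ with hh
  subst ha'
  set G : Matrix (Fin n) (Fin n) F :=
    D.B' * ((h : GL (Fin n) F) : Matrix (Fin n) (Fin n) F) * D.B.map τ with hG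
  set G' : Matrix (Fin n) (Fin n) F :=
    D.B'.map τ * (((h : GL (Fin n) F)⁻¹ : GL (Fin n) F) : Matrix (Fin n) (Fin n) F) * D.B with hG'
  have hBτ : D.B.map τ * D.B'.map τ = 1 := by
    rw [← Matrix.map_mul, D.hBB']
    exact Matrix.map_one _ (map_zero _) (map_one _)
  have hGG' : G * G' = 1 := by
    rw [hG, hG']
    calc D.B' * ((h : GL (Fin n) F) : Matrix (Fin n) (Fin n) F) * D.B.map τ *
          (D.B'.map τ * (((h : GL (Fin n) F)⁻¹ : GL (Fin n) F) : Matrix (Fin n) (Fin n) F) * D.B)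
        = D.B' * (((h : GL (Fin n) F) : Matrix (Fin n) (Fin n) F) * (D.B.map τ * D.B'.map τ) *
          (((h : GL (Fin n) F)⁻¹ : GL (Fin n) F) : Matrix (Fin n) (Fin n) F)) * D.B := by
          simp only [Matrix.mul_assoc]
      _ = 1 := by
          rw [hBτ, Matrix.mul_one, ← Units.val_mul, mul_inv_cancel, Units.val_one, Matrix.mul_one,
            D.hB'B]
  have hcomm : ∀ A₀ : Matrix (Fin n) (Fin n) F₀, A₀ᵀ * D.M₀ * A₀ = D.M₀ → A₀.det = 1 →
      ∃ ζ : F, G * (A₀.map j).map τ = ζ • (A₀.map j * G) := by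
    intro A₀ hA₀ hdet
    obtain ⟨u, hu, hmem⟩ := exists_inn_cent_of_isometry hn hjq D A₀ hA₀ hdet
    exact comm_matrix_of_comm hn D h u τ (A₀.map j) hu (ha _ hmem)
  have hres : (∀ t : F₀, τ (j t) = j t) ∧ ∃ c : F, G = c • (1 : Matrix (Fin n) (Fin n) F) := by
    rcases hD with hsym | halt
    · exact comm_sym hsym h2 hDd hn j τ G G' hGG' hcomm
    · exact comm_alt halt h2 hDd (by omega) j τ G G' hGG' hcomm
  obtain ⟨hτ, c, hc⟩ := hres
  exact mem_zpowers_of_scalar hn hj D h τ hτ c hc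

end Cfsg.Agent.Lib.Helper45.PSUBalance
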