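import Mathlib
import Cfsg.Agent.Lib.Helper45.PSUBalance.GraphCent
import Cfsg.Agent.Lib.Helper36.LocalBalance.Abs2
import Cfsg.Agent.Lib.Helper44.LBGen

/-!
# A generic local-balance theorem for graph involutions of `PSU_n(q)`
-/

set_option autoImplicit false
set_option linter.unusedSectionVars false
set_option linter.unusedVariables false

namespace Cfsg.Agent.Lib.Helper45.PSUBalance

open scoped MatrixGroups Matrix
open Matrix Cfsg.Agent.Lib.Helper43 Cfsg.Agent.Lib.Helper5 Cfsg.Agent.Lib.Helper45.PSLField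
  Cfsg.Agent.Lib.Helper45.PSUGraph Cfsg.Agent.Lib.Helper44.GraphInv
  Cfsg.Agent.Lib.Helper36.LocalBalance

variable {n : ℕ} {F : Type*} [Field F] [Fintype F] {q : ℕ} {F₀ : Type*} [Field F₀]
variable {hF : Fintype.card F = q ^ 2} {j : F₀ →+* F} {g : ↥(Cfsg.GU n F q)}

/-- the value of `simHom` at an isometry of determinant one -/
theorem simHom_isometry (hn : 3 ≤ n) (hjq : ∀ a : F₀, j a ^ q = j a) (D : Desc hF j g)
    (S : ↥(Cfsg.Geo.similarityGroup (bf D.M₀)))
    (hS : ((S : GL (Fin n) F₀) : Matrix (Fin n) (Fin n) F₀)ᵀ * D.M₀ *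
      ((S : GL (Fin n) F₀) : Matrix (Fin n) (Fin n) F₀) = D.M₀)
    (hdet : ((S : GL (Fin n) F₀) : Matrix (Fin n) (Fin n) F₀).det = 1) :
    ∃ u : ↥(Cfsg.GU n F q),
      ((u : GL (Fin n) F) : Matrix (Fin n) (Fin n) F) =
        D.B * ((S : GL (Fin n) F₀) : Matrix (Fin n) (Fin n) F₀).map j * D.B' ∧
      simHom hn hjq D S = psuDiag u ∧
      (psuDiag u : MulAut (Cfsg.PSU n F q)) ∈
        Cfsg.Inn (Cfsg.PSU n F q) ⊓ Subgroup.centralizer {xg hF g} := by
  obtain ⟨u, hu, hmem⟩ := exists_inn_cent_of_isometry hn hjq D _ hS hdet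
  refine ⟨u, hu, ?_, hmem⟩
  rw [simHom_apply]
  exact simFun_eq hn hjq D S u 1 one_ne_zero (by rw [one_smul]; exact hu)

/-- **generic theorem** -/
theorem psu_graph_generic (hn : 3 ≤ n) (hs : ¬ (n = 3 ∧ q = 2))
    (hj : ∀ a : F, a ^ q = a ↔ ∃ b, j b = a) (hjinj : Function.Injective j)
    (D : Desc hF j g) (hxx : xg hF g ^ 2 = 1)
    {G₀ : Type*} [Group G₀] (φ : G₀ →* ↥(Cfsg.Geo.similarityGroup (bf D.M₀)))
    (hφ : Function.Injective φ)
    (d1 : ∀ x, (((φ x : ↥(Cfsg.Geo.similarityGroup (bf D.M₀))) : GL (Fin n) F₀) :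
        Matrix (Fin n) (Fin n) F₀)ᵀ * D.M₀ *
      (((φ x : ↥(Cfsg.Geo.similarityGroup (bf D.M₀))) : GL (Fin n) F₀) :
        Matrix (Fin n) (Fin n) F₀) = D.M₀ ∧
      (((φ x : ↥(Cfsg.Geo.similarityGroup (bf D.M₀))) : GL (Fin n) F₀) :
        Matrix (Fin n) (Fin n) F₀).det = 1)
    (d3 : ∀ (S : ↥(Cfsg.Geo.similarityGroup (bf D.M₀))) (x : G₀), ∃ x' : G₀,
      S * φ x * S⁻¹ = φ x')
    (d4 : ∀ M : Subgroup (G₀ ⧸ Subgroup.center G₀), M.Normal → (Nat.card ↥M).Coprime 2 → M = ⊥)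
    (d5 : ∀ (τ : F ≃+* F) (G G' : Matrix (Fin n) (Fin n) F), G * G' = 1 →
      (∀ x : G₀, ∃ c : F,
        G * (((((φ x : ↥(Cfsg.Geo.similarityGroup (bf D.M₀))) : GL (Fin n) F₀) :
          Matrix (Fin n) (Fin n) F₀).map j).map τ) =
        c • (((((φ x : ↥(Cfsg.Geo.similarityGroup (bf D.M₀))) : GL (Fin n) F₀) :
          Matrix (Fin n) (Fin n) F₀).map j) * G)) →
      (∀ t : F₀, τ (j t) = j t) ∧ ∃ c : F, G = c • (1 : Matrix (Fin n) (Fin n) F))
    (A : Subgroup (MulAut (Cfsg.PSU n F q))) (hinn : Cfsg.Inn (Cfsg.PSU n F q) ≤ A) :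
    Cfsg.pPrimeCore 2 ↥(A ⊓ Subgroup.centralizer {xg hF g}) = ⊥ := by
  classical
  have : Fact (Nat.Prime 2) := ⟨Nat.prime_two⟩
  have hjq : ∀ a : F₀, j a ^ q = j a := fun a => (hj (j a)).mpr ⟨a, rfl⟩
  have hfinK : Finite (Cfsg.PSU n F q) := inferInstance
  set ψ : G₀ →* MulAut (Cfsg.PSU n F q) := (simHom hn hjq D).comp φ with hψ
  -- abbreviation for the matrix of `φ x`
  set mat : G₀ → Matrix (Fin n) (Fin n) F₀ := fun x =>
    (((φ x : ↥(Cfsg.Geo.similarityGroup (bf D.M₀))) : GL (Fin n) F₀) :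
      Matrix (Fin n) (Fin n) F₀) with hmat
  have hmat_mul : ∀ x y, mat (x * y) = mat x * mat y := by
    intro x y
    simp only [hmat, map_mul, Subgroup.coe_mul, Units.val_mul]
  -- the value of `ψ`
  have hψval : ∀ x, ∃ u : ↥(Cfsg.GU n F q),
      ((u : GL (Fin n) F) : Matrix (Fin n) (Fin n) F) = D.B * (mat x).map j * D.B' ∧
      ψ x = psuDiag u ∧
      (psuDiag u : MulAut (Cfsg.PSU n F q)) ∈
        Cfsg.Inn (Cfsg.PSU n F q) ⊓ Subgroup.centralizer {xg hF g} := fun x =>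
    simHom_isometry hn hjq D (φ x) (d1 x).1 (d1 x).2
  -- the kernel of `ψ`
  have hker : ψ.ker = Subgroup.center G₀ := by
    ext x
    rw [MonoidHom.mem_ker, hψ, MonoidHom.comp_apply, ← MonoidHom.mem_ker, ker_simHom,
      Subgroup.mem_subgroupOf, Cfsg.Geo.mem_scalars_iff, Subgroup.mem_center_iff]
    constructor
    · rintro ⟨c, hc⟩ y
      apply hφ
      apply Subtype.ext
      apply Units.ext
      have h1 := hmat_mul y x
      have h2 := hmat_mul x y
      have h3 : mat x = (c : F₀) • (1 : Matrix (Fin n) (Fin n) F₀) := hc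
      show mat (y * x) = mat (x * y)
      rw [h1, h2, h3, Matrix.mul_smul, Matrix.smul_mul, Matrix.mul_one, Matrix.one_mul]
    · intro hx
      have hinvx : mat x * mat x⁻¹ = 1 := by
        rw [← hmat_mul, mul_inv_cancel]
        simp only [hmat, map_one, Subgroup.coe_one, Units.val_one]
      obtain ⟨-, c, hc⟩ := d5 (RingEquiv.refl F) ((mat x).map j) ((mat x⁻¹).map j) (by
          rw [← Matrix.map_mul, hinvx]
          exact Matrix.map_one _ (map_zero _) (map_one _)) (by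
        intro y
        refine ⟨1, ?_⟩
        have h1 : ((mat y).map j).map (RingEquiv.refl F) = (mat y).map j := by
          ext a b
          rfl
        show (mat x).map j * ((mat y).map j).map (RingEquiv.refl F) = _
        rw [h1, one_smul, ← Matrix.map_mul, ← Matrix.map_mul, ← hmat_mul, ← hmat_mul, hx y])
      -- `c` comes from `F₀`
      have hn0 : 0 < n := by omega
      set c₀ : F₀ := mat x ⟨0, hn0⟩ ⟨0, hn0⟩ with hc₀
      have hcc : j c₀ = c := by
        have := congrFun (congrFun hc ⟨0, hn0⟩) ⟨0, hn0⟩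
        rw [Matrix.map_apply, Matrix.smul_apply, Matrix.one_apply_eq, smul_eq_mul, mul_one] at this
        exact this
      have hx' : mat x = c₀ • (1 : Matrix (Fin n) (Fin n) F₀) := by
        ext a b
        apply hjinj
        have := congrFun (congrFun hc a) b
        rw [Matrix.map_apply] at this
        rw [this, ← hcc, Matrix.smul_apply, Matrix.smul_apply, smul_eq_mul, smul_eq_mul, map_mul]
        by_cases hab : a = b
        · subst hab
          rw [Matrix.one_apply_eq, Matrix.one_apply_eq, map_one]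
        · rw [Matrix.one_apply_ne hab, Matrix.one_apply_ne hab, map_zero]
      have hc₀0 : c₀ ≠ 0 := by
        intro h0
        rw [h0, zero_smul] at hx'
        rw [hx', Matrix.zero_mul] at hinvx
        have := congrFun (congrFun hinvx ⟨0, hn0⟩) ⟨0, hn0⟩
        rw [Matrix.zero_apply, Matrix.one_apply_eq] at this
        exact zero_ne_one this
      exact ⟨Units.mk0 c₀ hc₀0, hx'⟩
  have hEP := Cfsg.Agent.Lib.Helper44.LB.noNormal_range ψ hker 2 d4
  -- `E ≤ Inn ⊓ C(x)`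
  have hEI : ψ.range ≤ Cfsg.Inn (Cfsg.PSU n F q) ⊓ Subgroup.centralizer {xg hF g} := by
    rintro _ ⟨x, rfl⟩
    obtain ⟨u, -, hu2, hu3⟩ := hψval x
    rw [hu2]
    exact hu3
  -- normalised
  have hEn : ∀ b ∈ Cfsg.Inn (Cfsg.PSU n F q) ⊓ Subgroup.centralizer {xg hF g},
      ∀ e ∈ ψ.range, b * e * b⁻¹ ∈ ψ.range := by
    rintro b hb _ ⟨x, rfl⟩
    have hb' : b ∈ Cfsg.inndiagPSU n F q ⊓ Subgroup.centralizer {xg hF g} := by
      refine Subgroup.mem_inf.mpr ⟨?_, (Subgroup.mem_inf.mp hb).2⟩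
      obtain ⟨s, rfl⟩ := (mem_inn_psu_iff b).mp (Subgroup.mem_inf.mp hb).1
      exact psuDiag_mem_inndiagPSU _
    obtain ⟨S, rfl⟩ := (mem_inndiag_centralizer_xg_iff hn hj hjq D b).mp hb'
    obtain ⟨x', hx'⟩ := d3 S x
    refine ⟨x', ?_⟩
    show simHom hn hjq D (φ x') = simHom hn hjq D S * simHom hn hjq D (φ x) * (simHom hn hjq D S)⁻¹
    rw [← hx', map_mul, map_mul, map_inv]
  -- centraliser
  have hEc : ∀ a : MulAut (Cfsg.PSU n F q),
      (∀ e ∈ ψ.range, a * e = e * a) → a ∈ Subgroup.zpowers (xg hF g) := by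
    intro a ha
    obtain ⟨h₀, τ, hh₀, haβ⟩ := Cfsg.Agent.Lib.Helper45.PSUAut.aut_psu_semilinear hF hn hs a
    have ha' : a = psuDiag ⟨h₀, hh₀⟩ * psuField τ :=
      (isInducedBySemilinearPSU_iff h₀ hh₀ τ a).mp haβ
    set h : ↥(Cfsg.GU n F q) := ⟨h₀, hh₀⟩ with hh
    subst ha'
    set G : Matrix (Fin n) (Fin n) F :=
      D.B' * ((h : GL (Fin n) F) : Matrix (Fin n) (Fin n) F) * D.B.map τ with hG
    set G' : Matrix (Fin n) (Fin n) F :=
      D.B'.map τ * (((h : GL (Fin n) F)⁻¹ : GL (Fin n) F) : Matrix (Fin n) (Fin n) F) * D.B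
      with hG'
    have hBτ : D.B.map τ * D.B'.map τ = 1 := by
      rw [← Matrix.map_mul, D.hBB']
      exact Matrix.map_one _ (map_zero _) (map_one _)
    have hGG' : G * G' = 1 := by
      rw [hG, hG']
      calc D.B' * ((h : GL (Fin n) F) : Matrix (Fin n) (Fin n) F) * D.B.map τ *
            (D.B'.map τ * (((h : GL (Fin n) F)⁻¹ : GL (Fin n) F) : Matrix (Fin n) (Fin n) F) * D.B)
          = D.B' * (((h : GL (Fin n) F) : Matrix (Fin n) (Fin n) F) * (D.B.map τ * D.B'.map τ) *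
            (((h : GL (Fin n) F)⁻¹ : GL (Fin n) F) : Matrix (Fin n) (Fin n) F)) * D.B := by
            simp only [Matrix.mul_assoc]
        _ = 1 := by
            rw [hBτ, Matrix.mul_one, ← Units.val_mul, mul_inv_cancel, Units.val_one,
              Matrix.mul_one, D.hB'B]
    obtain ⟨hτ, c, hc⟩ := d5 τ G G' hGG' (by
      intro x
      obtain ⟨u, hu1, hu2, -⟩ := hψval x
      have := ha (ψ x) ⟨x, rfl⟩
      rw [hu2] at this
      exact comm_matrix_of_comm hn D h u τ ((mat x).map j) hu1 this)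
    exact mem_zpowers_of_scalar hn hj D h τ hτ c hc
  exact core_eq_bot_of_noNormal A (xg hF g) 2 hinn hxx ψ.range hEI hEP hEn hEc

end Cfsg.Agent.Lib.Helper45.PSUBalance
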