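import Mathlib
import Cfsg.Agent.Lib.Helper45.PSUBalance.GraphGen

/-!
# Local balance for graph involutions of `PSU_n(q)`: the symplectic case
-/

set_option autoImplicit false
set_option linter.unusedSectionVars false
set_option linter.unusedVariables false

namespace Cfsg.Agent.Lib.Helper45.PSUBalance

open scoped MatrixGroups Matrix
open Matrix Cfsg.Agent.Lib.Helper43 Cfsg.Agent.Lib.Helper5 Cfsg.Agent.Lib.Helper45.PSLField
  Cfsg.Agent.Lib.Helper45.PSUGraph Cfsg.Agent.Lib.Helper44.GraphInv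
  Cfsg.Agent.Lib.Helper36.LocalBalance

variable {n m : ℕ} {F : Type*} [Field F] [Fintype F] {q : ℕ} {F₀ : Type*} [Field F₀]
variable {hF : Fintype.card F = q ^ 2} {j : F₀ →+* F} {g : ↥(Cfsg.GU n F q)}

/-- the reindexing of symplectic matrices, as a monoid homomorphism -/
noncomputable def spMat (F₀ : Type*) [Field F₀] (e : Fin m ⊕ Fin m ≃ Fin n) :
    ↥(Matrix.symplecticGroup (Fin m) F₀) →* Matrix (Fin n) (Fin n) F₀ where
  toFun x := (x : Matrix (Fin m ⊕ Fin m) (Fin m ⊕ Fin m) F₀).submatrix e.symm e.symm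
  map_one' := by
    show (1 : Matrix (Fin m ⊕ Fin m) (Fin m ⊕ Fin m) F₀).submatrix e.symm e.symm = 1
    exact Matrix.submatrix_one_equiv e.symm
  map_mul' x y := by
    show ((x : Matrix (Fin m ⊕ Fin m) (Fin m ⊕ Fin m) F₀) *
      (y : Matrix (Fin m ⊕ Fin m) (Fin m ⊕ Fin m) F₀)).submatrix e.symm e.symm = _
    exact (Matrix.submatrix_mul_equiv _ _ _ _ _).symm

/-- the reindexing of symplectic matrices, into `GL` -/
noncomputable def spGL (F₀ : Type*) [Field F₀] (e : Fin m ⊕ Fin m ≃ Fin n) :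
    ↥(Matrix.symplecticGroup (Fin m) F₀) →* GL (Fin n) F₀ :=
  (spMat F₀ e).toHomUnits

theorem spGL_coe (e : Fin m ⊕ Fin m ≃ Fin n) (x : ↥(Matrix.symplecticGroup (Fin m) F₀)) :
    ((spGL F₀ e x : GL (Fin n) F₀) : Matrix (Fin n) (Fin n) F₀) =
      (x : Matrix (Fin m ⊕ Fin m) (Fin m ⊕ Fin m) F₀).submatrix e.symm e.symm := rfl

theorem spGL_isometry (e : Fin m ⊕ Fin m ≃ Fin n) (x : ↥(Matrix.symplecticGroup (Fin m) F₀)) :
    ((spGL F₀ e x : GL (Fin n) F₀) : Matrix (Fin n) (Fin n) F₀)ᵀ *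
      (Matrix.J (Fin m) F₀).submatrix e.symm e.symm *
        ((spGL F₀ e x : GL (Fin n) F₀) : Matrix (Fin n) (Fin n) F₀) =
      (Matrix.J (Fin m) F₀).submatrix e.symm e.symm := by
  rw [spGL_coe, Matrix.transpose_submatrix, Matrix.submatrix_mul_equiv,
    Matrix.submatrix_mul_equiv, SymplecticGroup.mem_iff'.mp x.2]

theorem spGL_det (e : Fin m ⊕ Fin m ≃ Fin n) (x : ↥(Matrix.symplecticGroup (Fin m) F₀)) :
    ((spGL F₀ e x : GL (Fin n) F₀) : Matrix (Fin n) (Fin n) F₀).det = 1 := by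
  rw [spGL_coe, Matrix.det_submatrix_equiv_self, SymplecticGroup.det_eq_one x.2]

theorem spGL_injective (e : Fin m ⊕ Fin m ≃ Fin n) : Function.Injective (spGL F₀ e) := by
  intro x y hxy
  apply Subtype.ext
  have h1 := congrArg (fun z : GL (Fin n) F₀ => (z : Matrix (Fin n) (Fin n) F₀).submatrix e e) hxy
  simp only [spGL_coe, Matrix.submatrix_submatrix] at h1
  have h2 : (e.symm ∘ e : Fin m ⊕ Fin m → Fin m ⊕ Fin m) = id := by
    funext a
    simp
  rw [h2, Matrix.submatrix_id_id, Matrix.submatrix_id_id] at h1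
  exact h1

/-- every isometry of the reindexed standard alternating form comes from a symplectic matrix -/
theorem exists_spGL_eq (e : Fin m ⊕ Fin m ≃ Fin n) (Y : GL (Fin n) F₀)
    (hY : (Y : Matrix (Fin n) (Fin n) F₀)ᵀ * (Matrix.J (Fin m) F₀).submatrix e.symm e.symm *
      (Y : Matrix (Fin n) (Fin n) F₀) = (Matrix.J (Fin m) F₀).submatrix e.symm e.symm) :
    ∃ x : ↥(Matrix.symplecticGroup (Fin m) F₀), spGL F₀ e x = Y := by
  have h2 : (e.symm ∘ e : Fin m ⊕ Fin m → Fin m ⊕ Fin m) = id := by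
    funext a
    simp
  have h3 : (e ∘ e.symm : Fin n → Fin n) = id := by
    funext a
    simp
  have hmem : (Y : Matrix (Fin n) (Fin n) F₀).submatrix e e ∈
      Matrix.symplecticGroup (Fin m) F₀ := by
    rw [SymplecticGroup.mem_iff']
    have h1 := congrArg (fun z : Matrix (Fin n) (Fin n) F₀ => z.submatrix e e) hY
    simp only [← Matrix.submatrix_mul_equiv _ _ e e e, Matrix.submatrix_submatrix, h2,
      Matrix.submatrix_id_id] at h1
    rw [Matrix.transpose_submatrix]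
    exact h1
  refine ⟨⟨_, hmem⟩, ?_⟩
  apply Units.ext
  rw [spGL_coe]
  show ((Y : Matrix (Fin n) (Fin n) F₀).submatrix e e).submatrix e.symm e.symm = _
  rw [Matrix.submatrix_submatrix, h3, Matrix.submatrix_id_id]

/-- **the symplectic case**, with the absence of normal subgroups of odd order in `PSp` as a
hypothesis -/
theorem psu_graph_alt (hn : 3 ≤ n) (hs : ¬ (n = 3 ∧ q = 2))
    (hj : ∀ a : F, a ^ q = a ↔ ∃ b, j b = a) (hjinj : Function.Injective j)
    (h2 : (2 : F₀) ≠ 0) (e : Fin m ⊕ Fin m ≃ Fin n)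
    (D : Desc hF j g) (hM : D.M₀ = (Matrix.J (Fin m) F₀).submatrix e.symm e.symm)
    (hxx : xg hF g ^ 2 = 1)
    (hL : ∀ M : Subgroup (Cfsg.PSp m F₀), M.Normal → (Nat.card ↥M).Coprime 2 → M = ⊥)
    (A : Subgroup (MulAut (Cfsg.PSU n F q))) (hinn : Cfsg.Inn (Cfsg.PSU n F q) ≤ A) :
    Cfsg.pPrimeCore 2 ↥(A ⊓ Subgroup.centralizer {xg hF g}) = ⊥ := by
  have halt : D.M₀ᵀ = -D.M₀ := by
    rw [hM]
    exact altGL_transpose e
  have hdet : D.M₀.det ≠ 0 := by
    rw [hM, Matrix.det_submatrix_equiv_self]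
    exact (Matrix.isUnit_det_J (Fin m) F₀).ne_zero
  have hmem : ∀ x : ↥(Matrix.symplecticGroup (Fin m) F₀),
      spGL F₀ e x ∈ Cfsg.Geo.similarityGroup (bf D.M₀) := by
    intro x
    rw [mem_sim_bf_iff]
    refine ⟨1, ?_⟩
    rw [Units.val_one, one_smul, hM]
    exact spGL_isometry e x
  refine psu_graph_generic hn hs hj hjinj D hxx ((spGL F₀ e).codRestrict _ hmem)
    ?_ ?_ ?_ hL ?_ A hinn
  · -- injective
    intro x y hxy
    apply spGL_injective e
    exact congrArg Subtype.val hxy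
  · -- d1
    intro x
    refine ⟨?_, spGL_det e x⟩
    show ((spGL F₀ e x : GL (Fin n) F₀) : Matrix (Fin n) (Fin n) F₀)ᵀ * D.M₀ *
        ((spGL F₀ e x : GL (Fin n) F₀) : Matrix (Fin n) (Fin n) F₀) = D.M₀
    rw [hM]
    exact spGL_isometry e x
  · -- d3
    intro S x
    obtain ⟨c, hc⟩ := (mem_sim_bf_iff D.M₀ S.1).mp S.2
    have hSi : ((S.1⁻¹ : GL (Fin n) F₀) : Matrix (Fin n) (Fin n) F₀)ᵀ * D.M₀ *
        ((S.1⁻¹ : GL (Fin n) F₀) : Matrix (Fin n) (Fin n) F₀) = ((c : F₀)⁻¹) • D.M₀ := by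
      have h1 : (S.1 : Matrix (Fin n) (Fin n) F₀) *
          ((S.1⁻¹ : GL (Fin n) F₀) : Matrix (Fin n) (Fin n) F₀) = 1 := by
        rw [← Units.val_mul, mul_inv_cancel, Units.val_one]
      have h1t : ((S.1⁻¹ : GL (Fin n) F₀) : Matrix (Fin n) (Fin n) F₀)ᵀ *
          (S.1 : Matrix (Fin n) (Fin n) F₀)ᵀ = 1 := by
        rw [← Matrix.transpose_mul, h1, Matrix.transpose_one]
      calc ((S.1⁻¹ : GL (Fin n) F₀) : Matrix (Fin n) (Fin n) F₀)ᵀ * D.M₀ *
            ((S.1⁻¹ : GL (Fin n) F₀) : Matrix (Fin n) (Fin n) F₀)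
          = ((c : F₀)⁻¹) • (((S.1⁻¹ : GL (Fin n) F₀) : Matrix (Fin n) (Fin n) F₀)ᵀ *
              ((c : F₀) • D.M₀) * ((S.1⁻¹ : GL (Fin n) F₀) : Matrix (Fin n) (Fin n) F₀)) := by
            rw [Matrix.mul_smul, Matrix.smul_mul, smul_smul, inv_mul_cancel₀ c.ne_zero, one_smul]
        _ = ((c : F₀)⁻¹) • D.M₀ := by
            rw [← hc]
            congr 1
            calc ((S.1⁻¹ : GL (Fin n) F₀) : Matrix (Fin n) (Fin n) F₀)ᵀ *
                  ((S.1 : Matrix (Fin n) (Fin n) F₀)ᵀ * D.M₀ * (S.1 : Matrix (Fin n) (Fin n) F₀)) *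
                  ((S.1⁻¹ : GL (Fin n) F₀) : Matrix (Fin n) (Fin n) F₀)
                = (((S.1⁻¹ : GL (Fin n) F₀) : Matrix (Fin n) (Fin n) F₀)ᵀ *
                    (S.1 : Matrix (Fin n) (Fin n) F₀)ᵀ) * D.M₀ *
                  ((S.1 : Matrix (Fin n) (Fin n) F₀) *
                    ((S.1⁻¹ : GL (Fin n) F₀) : Matrix (Fin n) (Fin n) F₀)) := by
                  simp only [Matrix.mul_assoc]
              _ = D.M₀ := by rw [h1, h1t, Matrix.one_mul, Matrix.mul_one]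
    have hX := spGL_isometry e x
    rw [← hM] at hX
    obtain ⟨x', hx'⟩ := exists_spGL_eq e (S.1 * spGL F₀ e x * S.1⁻¹) (by
      rw [← hM, Units.val_mul, Units.val_mul, Matrix.transpose_mul, Matrix.transpose_mul]
      calc ((S.1⁻¹ : GL (Fin n) F₀) : Matrix (Fin n) (Fin n) F₀)ᵀ *
            (((spGL F₀ e x : GL (Fin n) F₀) : Matrix (Fin n) (Fin n) F₀)ᵀ *
              (S.1 : Matrix (Fin n) (Fin n) F₀)ᵀ) * D.M₀ *
            ((S.1 : Matrix (Fin n) (Fin n) F₀) *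
              ((spGL F₀ e x : GL (Fin n) F₀) : Matrix (Fin n) (Fin n) F₀) *
              ((S.1⁻¹ : GL (Fin n) F₀) : Matrix (Fin n) (Fin n) F₀))
          = ((S.1⁻¹ : GL (Fin n) F₀) : Matrix (Fin n) (Fin n) F₀)ᵀ *
            (((spGL F₀ e x : GL (Fin n) F₀) : Matrix (Fin n) (Fin n) F₀)ᵀ *
              ((S.1 : Matrix (Fin n) (Fin n) F₀)ᵀ * D.M₀ * (S.1 : Matrix (Fin n) (Fin n) F₀)) *
              ((spGL F₀ e x : GL (Fin n) F₀) : Matrix (Fin n) (Fin n) F₀)) *
              ((S.1⁻¹ : GL (Fin n) F₀) : Matrix (Fin n) (Fin n) F₀) := by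
            simp only [Matrix.mul_assoc]
        _ = D.M₀ := by
            rw [hc, Matrix.mul_smul, Matrix.smul_mul, hX, Matrix.mul_smul, Matrix.smul_mul, hSi,
              smul_smul, mul_inv_cancel₀ c.ne_zero, one_smul])
    refine ⟨x', ?_⟩
    apply Subtype.ext
    show (S : GL (Fin n) F₀) * spGL F₀ e x * ((S⁻¹ : ↥(Cfsg.Geo.similarityGroup
      (bf D.M₀))) : GL (Fin n) F₀) = spGL F₀ e x'
    rw [Subgroup.coe_inv, hx']
  · -- d5
    intro τ G G' hGG' H
    refine comm_alt halt h2 hdet (by omega) j τ G G' hGG' ?_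
    intro A₀ hA₀ hdetA
    have hu : IsUnit A₀.det := by rw [hdetA]; exact isUnit_one
    obtain ⟨x, hx⟩ := exists_spGL_eq e (Matrix.GeneralLinearGroup.mkOfDetNeZero A₀
      (by rw [hdetA]; exact one_ne_zero)) (by
        rw [← hM]
        exact hA₀)
    obtain ⟨c, hc⟩ := H x
    refine ⟨c, ?_⟩
    have h1 : (((((spGL F₀ e).codRestrict _ hmem x : ↥(Cfsg.Geo.similarityGroup (bf D.M₀))) :
        GL (Fin n) F₀) : Matrix (Fin n) (Fin n) F₀)) = A₀ := by
      show ((spGL F₀ e x : GL (Fin n) F₀) : Matrix (Fin n) (Fin n) F₀) = A₀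
      rw [hx]
      rfl
    rw [h1] at hc
    exact hc

end Cfsg.Agent.Lib.Helper45.PSUBalance
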