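import Mathlib
import Cfsg.Agent.Lib.Helper45.PSUBalance.GraphGen
import Cfsg.Agent.Lib.Helper44.LBOrth3
import Cfsg.Agent.Lib.Helper36.PgoInn

/-!
# Local balance for graph involutions of `PSU_n(q)`: the orthogonal case
-/

set_option autoImplicit false
set_option linter.unusedSectionVars false
set_option linter.unusedVariables false

namespace Cfsg.Agent.Lib.Helper45.PSUBalance

open scoped MatrixGroups Matrix
open Matrix Cfsg.Agent.Lib.Helper43 Cfsg.Agent.Lib.Helper5 Cfsg.Agent.Lib.Helper45.PSLField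
  Cfsg.Agent.Lib.Helper45.PSUGraph Cfsg.Agent.Lib.Helper44.GraphInv
  Cfsg.Agent.Lib.Helper36.LocalBalance

variable {n : ℕ} {F : Type*} [Field F] [Fintype F] {q : ℕ} {F₀ : Type*} [Field F₀]
variable {hF : Fintype.card F = q ^ 2} {j : F₀ →+* F} {g : ↥(Cfsg.GU n F q)}

theorem symQ_apply (M : Matrix (Fin n) (Fin n) F₀) (v : Fin n → F₀) :
    symQ M v = 2⁻¹ * bf M v v := by
  unfold symQ
  show (2⁻¹ : F₀) • (Matrix.toQuadraticForm' M) v = _
  unfold Matrix.toQuadraticForm'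
  rw [LinearMap.BilinMap.toQuadraticMap_apply, Matrix.toLinearMap₂'_apply', smul_eq_mul]
  rfl

/-- isometries of `symQ M` preserve the Gram matrix -/
theorem transpose_mul_of_mem_isometryGroup (h2 : (2 : F₀) ≠ 0) (M : Matrix (Fin n) (Fin n) F₀)
    (hM : Mᵀ = M) (x : GL (Fin n) F₀) (hx : x ∈ Cfsg.isometryGroup F₀ ⇑(symQ M)) :
    (x : Matrix (Fin n) (Fin n) F₀)ᵀ * M * (x : Matrix (Fin n) (Fin n) F₀) = M := by
  rw [Cfsg.Agent.Lib.Helper36.mem_isometryGroup_iff'] at hx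
  apply bf_ext
  intro u v
  rw [← bf_mulVec, ← polar_symQ h2 M hM, ← polar_symQ h2 M hM]
  unfold QuadraticMap.polar
  rw [← Matrix.mulVec_add, hx, hx, hx]

theorem sim_bf_le_quadSim (M : Matrix (Fin n) (Fin n) F₀) :
    Cfsg.Geo.similarityGroup (bf M) ≤ Cfsg.Geo.quadSimilarityGroup ⇑(symQ M) := by
  rintro S ⟨c, hc⟩
  refine ⟨c, fun v => ?_⟩
  rw [symQ_apply, symQ_apply, hc]
  ring

theorem isometryGroup_le_sim_bf (h2 : (2 : F₀) ≠ 0) (M : Matrix (Fin n) (Fin n) F₀)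
    (hM : Mᵀ = M) :
    Cfsg.isometryGroup F₀ ⇑(symQ M) ≤ Cfsg.Geo.similarityGroup (bf M) := by
  intro x hx
  rw [mem_sim_bf_iff]
  exact ⟨1, by rw [Units.val_one, one_smul]; exact transpose_mul_of_mem_isometryGroup h2 M hM x hx⟩

/-- **the orthogonal case**, with the absence of normal subgroups of odd order in `PΩ` as a
hypothesis -/
theorem psu_graph_sym [Fintype F₀] [DecidableEq F₀] (hn : 3 ≤ n) (hs : ¬ (n = 3 ∧ q = 2))
    (hj : ∀ a : F, a ^ q = a ↔ ∃ b, j b = a) (hjinj : Function.Injective j)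
    (h2 : (2 : F₀) ≠ 0)
    (D : Desc hF j g) (hsym : D.M₀ᵀ = D.M₀) (hdet : D.M₀.det ≠ 0) (hxx : xg hF g ^ 2 = 1)
    (hL : ∀ M : Subgroup (↥(Cfsg.Agent.Lib.Helper36.OmegaGL ⇑(symQ D.M₀)) ⧸
        Subgroup.center ↥(Cfsg.Agent.Lib.Helper36.OmegaGL ⇑(symQ D.M₀))),
      M.Normal → (Nat.card ↥M).Coprime 2 → M = ⊥)
    (A : Subgroup (MulAut (Cfsg.PSU n F q))) (hinn : Cfsg.Inn (Cfsg.PSU n F q) ≤ A) :
    Cfsg.pPrimeCore 2 ↥(A ⊓ Subgroup.centralizer {xg hF g}) = ⊥ := by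
  have hQ₀ : (QuadraticMap.polarBilin (symQ D.M₀)).Nondegenerate := by
    rw [Cfsg.Agent.Lib.Helper44.nondeg_iff_gramStd_det_ne_zero, gramStd_symQ h2 _ hsym]
    exact hdet
  have hle : Cfsg.Agent.Lib.Helper36.OmegaGL ⇑(symQ D.M₀) ≤
      Cfsg.Geo.similarityGroup (bf D.M₀) :=
    le_trans (Cfsg.Agent.Lib.Helper36.OmegaGL_le_isometryGroup _)
      (isometryGroup_le_sim_bf h2 D.M₀ hsym)
  refine psu_graph_generic hn hs hj hjinj D hxx (Subgroup.inclusion hle)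
    (Subgroup.inclusion_injective hle) ?_ ?_ hL ?_ A hinn
  · -- d1
    intro x
    refine ⟨transpose_mul_of_mem_isometryGroup h2 D.M₀ hsym x.1
      (Cfsg.Agent.Lib.Helper36.OmegaGL_le_isometryGroup _ x.2), ?_⟩
    have h1 : Matrix.GeneralLinearGroup.det (x : GL (Fin n) F₀) = 1 :=
      (Cfsg.Agent.Lib.Helper36.OmegaGL_le_special _ x.2).2
    have := congrArg Units.val h1
    rwa [Matrix.GeneralLinearGroup.val_det_apply] at this
  · -- d3
    intro S x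
    obtain ⟨y, hy, hyx⟩ := x.2
    obtain ⟨s', hs'⟩ := Cfsg.Agent.Lib.Helper36.exists_conj_Omega ⇑(symQ D.M₀)
      ⟨S.1, sim_bf_le_quadSim D.M₀ S.2⟩ ⟨y, hy⟩
    refine ⟨⟨((s' : ↥(Cfsg.isometryGroup F₀ ⇑(symQ D.M₀))) : GL (Fin n) F₀), ⟨s'.1, s'.2, rfl⟩⟩, ?_⟩
    apply Subtype.ext
    show (S : GL (Fin n) F₀) * (x : GL (Fin n) F₀) * ((S⁻¹ : ↥(Cfsg.Geo.similarityGroup
      (bf D.M₀))) : GL (Fin n) F₀) = _
    rw [Subgroup.coe_inv]
    show _ = ((s' : ↥(Cfsg.isometryGroup F₀ ⇑(symQ D.M₀))) : GL (Fin n) F₀)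
    rw [hs', ← hyx]
    rfl
  · -- d5
    intro τ G G' hGG' H
    have hdim : 3 ≤ Fintype.card (Fin n) := by rw [Fintype.card_fin]; exact hn
    exact Cfsg.Agent.Lib.Helper44.LB.cent_orth (symQ D.M₀) hQ₀ h2 hdim j τ
      ⟨G, G', hGG', mul_eq_one_comm.mp hGG'⟩ (fun A hA => H ⟨A, hA⟩)

end Cfsg.Agent.Lib.Helper45.PSUBalance
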