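import Mathlib
import Cfsg.Agent.Lib.Helper45.PSUBalance.GraphSym
import Cfsg.Agent.Lib.Helper45.PSUBalance.GraphAlt
import Cfsg.Agent.Lib.Helper45.PSUGraph.Skew
import Cfsg.Agent.Lib.Helper45.PSUGraph.Reps
import Cfsg.Agent.Lib.Helper45.PSUGraph.Desc
import Cfsg.Agent.Lib.Helper45.PSUGraph.Forms

/-!
# Local balance for graph involutions of `PSU_n(q)`, `q` odd
-/

set_option autoImplicit false
set_option linter.unusedSectionVars false
set_option linter.unusedVariables false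

namespace Cfsg.Agent.Lib.Helper45.PSUBalance

open scoped MatrixGroups Matrix
open Matrix Cfsg.Agent.Lib.Helper43 Cfsg.Agent.Lib.Helper5 Cfsg.Agent.Lib.Helper45.PSLField
  Cfsg.Agent.Lib.Helper45.PSUGraph Cfsg.Agent.Lib.Helper44.GraphInv
  Cfsg.Agent.Lib.Helper36.LocalBalance

variable {n : ℕ} {F : Type*} [Field F] [Fintype F] {q : ℕ} {F₀ : Type*} [Field F₀]

/-- **graph involutions of `PSU_n(q)`, `q` odd**: `O_{2'}(C_A(x)) = 1`, with the absence of
normal subgroups of odd order in `PΩ` and `PSp` over the field with `q` elements as hypotheses -/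
theorem graph_main [Fintype F₀] (hF : Fintype.card F = q ^ 2) (hn : 3 ≤ n)
    (hs : ¬ (n = 3 ∧ q = 2)) (hodd : Odd q) (hF₀ : Fintype.card F₀ = q)
    (hLO : ∀ Q : QuadraticForm F₀ (Fin n → F₀), (QuadraticMap.polarBilin Q).Nondegenerate →
      ∀ M : Subgroup (↥(Cfsg.Agent.Lib.Helper36.OmegaGL ⇑Q) ⧸
        Subgroup.center ↥(Cfsg.Agent.Lib.Helper36.OmegaGL ⇑Q)),
      M.Normal → (Nat.card ↥M).Coprime 2 → M = ⊥)
    (hLSp : ∀ m : ℕ, n = 2 * m → ∀ M : Subgroup (Cfsg.PSp m F₀),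
      M.Normal → (Nat.card ↥M).Coprime 2 → M = ⊥)
    (g : ↥(Cfsg.GU n F q)) (h2 : orderOf (xg hF g) = 2)
    (A : Subgroup (MulAut (Cfsg.PSU n F q))) (hinn : Cfsg.Inn (Cfsg.PSU n F q) ≤ A) :
    Cfsg.pPrimeCore 2 ↥(A ⊓ Subgroup.centralizer {xg hF g}) = ⊥ := by
  classical
  have hn1 : 1 ≤ n := by omega
  obtain ⟨j, hj⟩ := exists_embedding_qfixed (F₀ := F₀) hF hF₀
  have hjq : ∀ a : F₀, j a ^ q = j a := fun a => (hj (j a)).mpr ⟨a, rfl⟩
  have hjinj : Function.Injective j := j.injective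
  have h2₀ : (2 : F₀) ≠ 0 := by
    have hodd₀ : Fintype.card F₀ % 2 = 1 := by rw [hF₀]; exact Nat.odd_iff.mp hodd
    exact two_ne_zero_of_odd_card hodd₀
  have h2F : (2 : F) ≠ 0 := by
    intro h
    apply h2₀
    apply hjinj
    rw [map_ofNat, map_zero, h]
  have hxx : xg hF g ^ 2 = 1 := by
    rw [← h2]
    exact pow_orderOf_eq_one _
  rcases transpose_eq_of_orderOf_xg hF hn g h2 with hsym | halt
  · obtain ⟨D, -, -, hD3, hD4⟩ := exists_desc_symm hF hn1 j hj g hsym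
    have hQ₀ : (QuadraticMap.polarBilin (symQ D.M₀)).Nondegenerate := by
      rw [Cfsg.Agent.Lib.Helper44.nondeg_iff_gramStd_det_ne_zero, gramStd_symQ h2₀ _ hD3]
      exact hD4
    exact psu_graph_sym hn hs hj hjinj h2₀ D hD3 hD4 hxx (hLO _ hQ₀) A hinn
  · -- `n` is even
    have he : Even n := by
      by_contra hne
      exact not_alt_of_odd (Nat.not_even_iff_odd.mp hne) h2F (g : GL (Fin n) F) halt
    obtain ⟨m, hm⟩ := he
    have hnm : n = 2 * m := by omega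
    obtain ⟨lam₀, θ₀, hlam₀, hθ₀0, hθ₀⟩ := exists_lam_theta hF hodd
    obtain ⟨D, -, -, hD3, hD4⟩ := exists_desc_skew hF hn1 j hj g halt lam₀ θ₀ hlam₀ hθ₀0 hθ₀
    have e : Fin m ⊕ Fin m ≃ Fin n := finSumFinEquiv.trans (finCongr (by omega))
    have hAd : ((altGL e : GL (Fin n) F₀) : Matrix (Fin n) (Fin n) F₀).det ≠ 0 :=
      ((Matrix.isUnit_iff_isUnit_det _).mp (altGL e : GL (Fin n) F₀).isUnit).ne_zero
    obtain ⟨P, hP⟩ := exists_congr_skew hnm h2₀
      ((altGL e : GL (Fin n) F₀) : Matrix (Fin n) (Fin n) F₀) D.M₀ (altGL_transpose e) hD3 hAd hD4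
    have hPd : P.det ≠ 0 := det_ne_zero_of_congr _ D.M₀ P 1 one_ne_zero hAd
      (by rw [one_smul, hP])
    have hPP' : P * P⁻¹ = 1 := Matrix.mul_nonsing_inv _ (Ne.isUnit hPd)
    exact psu_graph_alt hn hs hj hjinj h2₀ e (D.conj hjq P P⁻¹ hPP')
      (by rw [Desc.conj_M₀, hP]; rfl) hxx (hLSp m hnm) A hinn

end Cfsg.Agent.Lib.Helper45.PSUBalance
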