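import Mathlib
import Cfsg.Agent.S0270
import Cfsg.Agent.Lib.Helper36.LocalBalance.PSpStd
import Cfsg.Agent.Lib.Helper36.LocalBalance.Abs2

/-!
# `PSp_{2m}(q)`, `m ≥ 2`, `q ≥ 3`, has no non-trivial normal subgroup of odd order
-/

set_option autoImplicit false

namespace Cfsg.Agent.Lib.Helper45.PSUBalance

open Cfsg.Agent.Lib.Helper36.LocalBalance

theorem noNormal_psp {F₀ : Type*} [Field F₀] [Fintype F₀] {m : ℕ} (hm : 2 ≤ m)
    (hcard : 3 ≤ Fintype.card F₀) (M : Subgroup (Cfsg.PSp m F₀)) (hM : M.Normal)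
    (hc : (Nat.card ↥M).Coprime 2) : M = ⊥ := by
  have : Fact (Nat.Prime 2) := ⟨Nat.prime_two⟩
  have hsimple : IsSimpleGroup (Cfsg.PSp m F₀) := Cfsg.Agent.S0270.result m hm (fun _ => hcard)
  exact noNormal_of_simple 2 (even_card_PSp (by omega)) M hM hc

end Cfsg.Agent.Lib.Helper45.PSUBalance
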