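import Mathlib
import Cfsg.Agent.Lib.Helper45.PSUBalance.GraphMain
import Cfsg.Agent.Lib.Helper36.LocalBalance.PSUMain

/-!
# The local-balance criterion for non-inner-diagonal automorphisms of prime order of `PSU_n(q)`
-/

set_option autoImplicit false
set_option linter.unusedSectionVars false
set_option linter.unusedVariables false

namespace Cfsg.Agent.Lib.Helper45.PSUBalance

open scoped MatrixGroups Matrix
open Matrix Cfsg.Agent.Lib.Helper43 Cfsg.Agent.Lib.Helper5 Cfsg.Agent.Lib.Helper45.PSLField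
  Cfsg.Agent.Lib.Helper45.PSUGraph Cfsg.Agent.Lib.Helper44.GraphInv
  Cfsg.Agent.Lib.Helper36.LocalBalance

/-- a field with `q` elements, when `q ^ 2` is the order of a finite field -/
theorem exists_field_card_eq {F : Type*} [Field F] [Fintype F] (r : ℕ) [Fact r.Prime] [CharP F r]
    (q : ℕ) (hF : Fintype.card F = q ^ 2) :
    ∃ (F₀ : Type) (_ : Field F₀) (_ : Fintype F₀), Fintype.card F₀ = q ∧ ∃ d : ℕ, q = r ^ d := by
  have hr : r.Prime := Fact.out
  obtain ⟨k, -, hk⟩ := FiniteField.card F r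
  have h1 : q ∣ r ^ (k : ℕ) := by
    rw [← hk, hF]
    exact Dvd.intro_left (q ^ 1) (by ring)
  obtain ⟨d, -, hd⟩ := (Nat.dvd_prime_pow hr).mp h1
  have hd0 : d ≠ 0 := by
    rintro rfl
    rw [pow_zero] at hd
    rw [hd, one_pow] at hF
    have := Fintype.one_lt_card (α := F)
    omega
  have hfin : Fintype (GaloisField r d) := Fintype.ofFinite _
  refine ⟨GaloisField r d, inferInstance, hfin, ?_, d, hd⟩
  rw [← Nat.card_eq_fintype_card, GaloisField.card r d hd0, hd]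

/-- **the criterion**, with the absence of normal subgroups of odd order in `PΩ` and `PSp` over
the fields with `q` elements as hypotheses -/
theorem psu_balance_main
    (F : Type*) [Field F] [Fintype F] (r : ℕ) [Fact r.Prime] [CharP F r] (q : ℕ)
    (hF : Fintype.card F = q ^ 2)
    (n : ℕ) (hn : 3 ≤ n) (hK : IsSimpleGroup (Cfsg.PSU n F q))
    (hLO : ∀ (F₀ : Type) [Field F₀] [Fintype F₀], Fintype.card F₀ = q → Odd q →
      ∀ Q : QuadraticForm F₀ (Fin n → F₀), (QuadraticMap.polarBilin Q).Nondegenerate →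
      ∀ M : Subgroup (↥(Cfsg.Agent.Lib.Helper36.OmegaGL ⇑Q) ⧸
        Subgroup.center ↥(Cfsg.Agent.Lib.Helper36.OmegaGL ⇑Q)),
      M.Normal → (Nat.card ↥M).Coprime 2 → M = ⊥)
    (hLSp : ∀ (F₀ : Type) [Field F₀] [Fintype F₀], Fintype.card F₀ = q → Odd q →
      ∀ m : ℕ, n = 2 * m → ∀ M : Subgroup (Cfsg.PSp m F₀),
      M.Normal → (Nat.card ↥M).Coprime 2 → M = ⊥)
    (𝒢 : Subgroup (MulAut (Cfsg.PSU n F q))) (hinn : ∀ k : Cfsg.PSU n F q, MulAut.conj k ∈ 𝒢)
    (p : ℕ) [Fact p.Prime] (hpr : p ≠ r) (β : MulAut (Cfsg.PSU n F q)) (hβ : β ∈ 𝒢)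
    (hord : orderOf β = p) (hnot : ¬ Cfsg.IsInnerDiagonalAutPSU β) :
    Cfsg.pPrimeCore p ↥(𝒢 ⊓ Subgroup.centralizer {β}) ≠ ⊥ ↔
      ((∃ γ φ : MulAut (Cfsg.PSU n F q), Cfsg.IsInnerDiagonalAutPSU γ ∧
          (∃ σ : F ≃+* F, Cfsg.IsFieldAutPSUOf σ φ) ∧ β = φ.trans γ) ∧
        Nat.Coprime p (Nat.card ↥(MonoidHom.eqLocus β.toMonoidHom
          (MonoidHom.id (Cfsg.PSU n F q))))) := by
  classical
  have hp : p.Prime := Fact.out
  have hr : r.Prime := Fact.out
  have hs : ¬ (n = 3 ∧ q = 2) := not_three_two_of_simple hF hK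
  have hstd : AllStdAutPSU n F q := by
    intro β'
    obtain ⟨g', τ', hg', hβ'⟩ := Cfsg.Agent.Lib.Helper45.PSUAut.aut_psu_semilinear hF hn hs β'
    exact ⟨τ', ⟨g', hg'⟩, (isInducedBySemilinearPSU_iff g' hg' τ' β').mp hβ'⟩
  obtain ⟨τ, g, hβeq⟩ := hstd β
  have hτ1 : τ ≠ 1 := by
    rintro rfl
    apply hnot
    rw [isInnerDiagonalAutPSU_iff]
    refine ⟨g, ?_⟩
    rw [hβeq, map_one, mul_one]
  have hfirst : ∃ γ φ : MulAut (Cfsg.PSU n F q), Cfsg.IsInnerDiagonalAutPSU γ ∧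
      (∃ σ : F ≃+* F, Cfsg.IsFieldAutPSUOf σ φ) ∧ β = φ.trans γ := by
    refine ⟨psuDiag g, psuField τ, (isInnerDiagonalAutPSU_iff _).mpr ⟨g, rfl⟩,
      ⟨τ, (isFieldAutPSUOf_iff τ _).mpr rfl⟩, ?_⟩
    rw [hβeq]
    rfl
  have hinn' : Cfsg.Inn (Cfsg.PSU n F q) ≤ 𝒢 := by
    rintro _ ⟨k, rfl⟩
    exact hinn k
  by_cases hp2 : p = 2
  · -- graph involutions
    subst hp2
    obtain ⟨F₀, instF₀, instFin, hF₀, d, hd⟩ := exists_field_card_eq (F := F) r q hF
    have hrodd : Odd r := hr.odd_of_ne_two (fun h => hpr h.symm)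
    have hodd : Odd q := by
      rw [hd]
      exact hrodd.pow
    have h2F : (2 : F) ≠ 0 := by
      have hodd' : Fintype.card F % 2 = 1 := by
        rw [hF]
        exact Nat.odd_iff.mp hodd.pow
      exact two_ne_zero_of_odd_card hodd'
    have hord' : orderOf ((psuDiag g : MulAut (Cfsg.PSU n F q)) * psuField τ) = 2 := by
      rw [← hβeq]
      exact hord
    have hxg : β = xg hF g := by
      rw [hβeq]
      exact eq_xg_of_std_invol hF hn g τ hτ1 hord'
    have hcore : Cfsg.pPrimeCore 2 ↥(𝒢 ⊓ Subgroup.centralizer {β}) = ⊥ := by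
      rw [hxg]
      refine graph_main hF hn hs hodd hF₀ (hLO F₀ hF₀ hodd) (hLSp F₀ hF₀ hodd) g ?_ 𝒢 hinn'
      rw [← hxg]
      exact hord
    have hxx : β ^ 2 = 1 := by
      rw [← hord]
      exact pow_orderOf_eq_one β
    have hmod := card_eqLocus_modEq β 2 hxx
    have hdvd := two_dvd_card_psu hF hn hodd h2F
    have hfix : 2 ∣ Nat.card ↥(MonoidHom.eqLocus β.toMonoidHom (MonoidHom.id (Cfsg.PSU n F q))) :=
      (Nat.modEq_zero_iff_dvd.mp ((hmod.symm.trans (Nat.modEq_zero_iff_dvd.mpr hdvd))))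
    constructor
    · intro h
      exact absurd hcore h
    · rintro ⟨-, hcop⟩
      exfalso
      have := Nat.Coprime.eq_one_of_dvd hcop hfix
      omega
  · -- field type
    have hord' : orderOf ((psuDiag g : MulAut (Cfsg.PSU n F q)) * psuField τ) = p := by
      rw [← hβeq]
      exact hord
    have key := psu_field_main hF hn hK hstd hp2 𝒢 hinn g τ hτ1 hord'
    rw [← hβeq] at key
    rw [key]
    constructor
    · intro h
      exact ⟨hfirst, h⟩
    · intro h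
      exact h.2

end Cfsg.Agent.Lib.Helper45.PSUBalance
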